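import Cfsg.Agent.Lib.M23.Graph
import Cfsg.Agent.Lib.CosetEnum.OutThree

/-!
The nine letters of the presented group Fi22: they are different, conjugate, and commute or braid as in the diagram.
-/

set_option autoImplicit false
set_option linter.style.longLine false

namespace CfsgLib.TypeM22

open CfsgLib.CosetEnum Cfsg.Spor

/-- the label of two letters of Fi22 -/
def genLabel (k l : ℕ) : ℕ :=
  coxLabel Fi22.edges (Fi22Pres.letters.getD k .a) (Fi22Pres.letters.getD l .a)

theorem genLetters_differ : ((List.range 9).all fun k => (List.range 9).all fun l =>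
    Nat.beq k l || !sameBases Fi22Pres.certA Fi22Pres.levels [k] [l]) = true := by decide +kernel

theorem gen_ne {k l : ℕ} (hk : k < 9) (hl : l < 9) (h : k ≠ l) : Fi22Pres.gen k ≠ Fi22Pres.gen l := by
  have h1 := List.all_eq_true.mp (List.all_eq_true.mp genLetters_differ k (List.mem_range.mpr hk)) l (List.mem_range.mpr hl)
  rw [Bool.or_eq_true, Bool.not_eq_true'] at h1
  have h2 := h1.resolve_left fun e => h (Nat.eq_of_beq_eq_true e)
  simp only [sameBases, List.all_eq_false, Bool.not_eq_true] at h2
  obtain ⟨L, hL, hne⟩ := h2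
  have hb : (Fi22Pres.levels.all fun l => Nat.blt l.base Fi22Pres.certA.N) = true := by decide +kernel
  simp only [List.all_eq_true, Nat.blt_eq] at hb
  intro e
  exact Fi22Pres.setupA.ne_of_run (u := [k]) (w := [l]) (by simpa using (show k < Fi22Pres.certA.K from hk))
    (by simpa using (show l < Fi22Pres.certA.K from hl)) (hb L hL) hne (by simpa using e)

theorem gen_rel {k l : ℕ} (hk : k < 9) (hl : l < 9) :
    (Fi22Pres.gen k * Fi22Pres.gen l) ^ genLabel k l = 1 := by
  have hn : ∀ x : Fi22.Gen, x ∈ coxNodes Fi22.edges := by intro x; cases x <;> decide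
  rw [genLabel, Fi22Pres.gen, presGen, genOf_of_lt (show k < Fi22Pres.letters.length from hk),
    genOf_of_lt (show l < Fi22Pres.letters.length from hl),
    List.getD_eq_getElem _ _ (show k < Fi22Pres.letters.length from hk),
    List.getD_eq_getElem _ _ (show l < Fi22Pres.letters.length from hl)]
  exact of_pair (extra := Fi22.extra) (hn _) (hn _)

theorem genLabel_cases : ∀ k < 9, ∀ l < 9,
    (genLabel k l = if k = l then 1 else if (k, l) ∈ [(0, 1), (1, 0), (1, 2), (2, 1), (2, 3), (3, 2), (3, 4), (4, 3), (4, 5), (5, 4),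
      (5, 6), (6, 5), (3, 7), (7, 3), (7, 8), (8, 7)] then 3 else 2) := by
  decide +kernel

theorem gen_commute {k l : ℕ} (hk : k < 9) (hl : l < 9) (h : k ≠ l) :
    Commute (Fi22Pres.gen k) (Fi22Pres.gen l) ↔ genLabel k l = 2 := by
  have hrel := gen_rel hk hl
  have hs := Fi22Pres.gen_sq
  constructor
  · intro hc
    have h3 := genLabel_cases k hk l hl
    rw [if_neg h] at h3
    split at h3
    · exfalso
      rw [h3, pow_succ, pow_two, hc.symm.mul_mul_mul_comm, hs, hs, one_mul, one_mul] at hrel
      exact gen_ne hk hl h ((mul_eq_one_iff_eq_inv.1 hrel).trans (inv_eq_of_mul_eq_one_right (hs l)))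
    · exact h3
  · intro e
    rw [e, pow_two] at hrel
    show _ = _
    have := inv_eq_of_mul_eq_one_right hrel
    rw [_root_.mul_inv_rev, inv_eq_of_mul_eq_one_right (hs k), inv_eq_of_mul_eq_one_right (hs l)] at this
    exact this.symm

theorem braid_isConj {Γ : Type*} [Group Γ] {a b : Γ} (ha : a * a = 1) (hb : b * b = 1) (h : (a * b) ^ 3 = 1) :
    IsConj a b := by
  refine isConj_iff.2 ⟨a * b, ?_⟩
  have h' : a * (b * (a * (b * (a * b)))) = 1 := by
    rw [pow_succ, pow_two] at h; simpa only [mul_assoc] using h
  rw [_root_.mul_inv_rev, inv_eq_of_mul_eq_one_right ha, inv_eq_of_mul_eq_one_right hb]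
  calc a * b * a * (b * a) = a * (b * (a * (b * (a * (b * b))))) := by rw [hb, mul_one]; simp only [mul_assoc]
    _ = a * (b * (a * (b * (a * b)))) * b := by simp only [mul_assoc]
    _ = b := by rw [h', one_mul]

theorem gen_isConj : ∀ k < 9, IsConj (Fi22Pres.gen 0) (Fi22Pres.gen k) := by
  have step : ∀ k l, k < 9 → l < 9 → genLabel k l = 3 → IsConj (Fi22Pres.gen k) (Fi22Pres.gen l) := fun k l hk hl e => by
    have := gen_rel hk hl
    rw [e] at this
    exact braid_isConj (Fi22Pres.gen_sq k) (Fi22Pres.gen_sq l) this
  have h01 := step 0 1 (by norm_num) (by norm_num) (by decide +kernel)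
  have h02 := h01.trans (step 1 2 (by norm_num) (by norm_num) (by decide +kernel))
  have h03 := h02.trans (step 2 3 (by norm_num) (by norm_num) (by decide +kernel))
  have h04 := h03.trans (step 3 4 (by norm_num) (by norm_num) (by decide +kernel))
  have h05 := h04.trans (step 4 5 (by norm_num) (by norm_num) (by decide +kernel))
  have h06 := h05.trans (step 5 6 (by norm_num) (by norm_num) (by decide +kernel))
  have h07 := h03.trans (step 3 7 (by norm_num) (by norm_num) (by decide +kernel))
  have h08 := h07.trans (step 7 8 (by norm_num) (by norm_num) (by decide +kernel))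
  intro k hk
  interval_cases k <;> first | exact IsConj.refl _ | assumption

end CfsgLib.TypeM22
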