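import Cfsg.Agent.Lib.TypeM22.Main
import Cfsg.Agent.Lib.TypeM22.GenFacts
import Cfsg.Agent.Lib.M23.Clique
import Cfsg.Prelude.Def_CaseTheorems
import Cfsg.Agent.Lib.Layer.Basic

/-!
Order, width and centralizers of the transpositions in a group which is Fi22 with its class.
-/

set_option autoImplicit false
set_option linter.unusedSectionVars false

namespace CfsgLib.TypeM22

open Cfsg Cfsg.Spor
open CfsgLib.ThreeTransp CfsgLib.ThreeTransp.Relations
open CfsgLib.Fi22USix (transClass transClass_three transClass_card centralizer_central)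
open CfsgLib.Fi22Pres (gen subA)
open CfsgLib.HePres (K4)

theorem class22_conj (g : Fi22) {x : Fi22} (hx : x ∈ transClass) : g * x * g⁻¹ ∈ transClass :=
  class_conjClosed transClass_three g x hx

theorem perp22_le : perpGroup transClass (gen 0) ≤ subA := by
  rw [← centralizer_central]
  exact fun g hg => Subgroup.mem_centralizer_singleton_iff.2 (commute_of_mem_perpGroup hg).eq

theorem gen_mem_nbr {k : ℕ} (hk : k < 9) (h : 2 ≤ k) : gen k ∈ nbr transClass (gen 0) := by
  refine ⟨TypeM22.gen_isConj k hk, fun e => ?_, (TypeM22.gen_commute (by norm_num) hk (by omega)).2 ?_⟩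
  · exact TypeM22.gen_ne hk (by norm_num) (by omega) e
  · have h3 := TypeM22.genLabel_cases 0 (by norm_num) k (by omega)
    rw [if_neg (by omega), if_neg (by simp; omega)] at h3
    exact h3

/-- A subgroup of the cover that covers the quotient is everything. -/
theorem cover_top {A : Type*} [Group A] {K : Type*} [Group K] (h : IsNonsplitDoubleCover A K) (L : Subgroup A)
    (hL : L ⊔ Subgroup.center A = ⊤) : L = ⊤ := by
  obtain ⟨hc2, -, hns⟩ := h
  haveI : Fact (Nat.card (Subgroup.center A)).Prime := ⟨hc2 ▸ Nat.prime_two⟩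
  rcases (L.subgroupOf (Subgroup.center A)).eq_bot_or_eq_top_of_prime_card with h0 | h0
  · refine absurd ?_ (hns L)
    refine Subgroup.isComplement'_of_disjoint_and_mul_eq_univ (Subgroup.subgroupOf_eq_bot.1 h0).symm ?_
    rw [← Subgroup.normal_mul, sup_comm, hL, Subgroup.coe_top]
  · have hle : Subgroup.center A ≤ L := Subgroup.subgroupOf_eq_top.1 h0
    rwa [sup_eq_left.2 hle] at hL

theorem perp22_eq : perpGroup transClass (gen 0) = subA := by
  obtain ⟨hc2, ⟨q⟩, hns⟩ := Fi22USix.subA_cover
  haveI : IsSimpleGroup (subA ⧸ Subgroup.center subA) := by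
    haveI := Fi22USix.psu_simple
    haveI : Nontrivial (subA ⧸ Subgroup.center subA) := q.toEquiv.nontrivial
    exact IsSimpleGroup.isSimpleGroup_of_surjective q.symm.toMonoidHom q.symm.surjective
  set L := (perpGroup transClass (gen 0)).subgroupOf subA
  haveI hn : L.Normal := ⟨fun n hn g => by
    rw [Subgroup.mem_subgroupOf] at hn ⊢
    have hg : (g : Fi22) * gen 0 * (g : Fi22)⁻¹ = gen 0 := by
      rw [Fi22USix.comm_central _ g.2, mul_inv_cancel_right]
    have h := Subgroup.mem_map_of_mem (MulAut.conj (g : Fi22)).toMonoidHom hn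
    rw [perpGroup, MonoidHom.map_closure] at h
    rw [show (MulAut.conj (g : Fi22)).toMonoidHom '' nbr transClass (gen 0) = nbr transClass (gen 0) from
      (image_nbr (fun g x hx => class22_conj g hx) (gen 0) g).trans (by rw [hg])] at h
    exact h⟩
  have hle : L ⊔ Subgroup.center subA = ⊤ := by
    rcases Subgroup.Normal.eq_bot_or_eq_top (hn.map (QuotientGroup.mk' (Subgroup.center subA))
      (QuotientGroup.mk'_surjective _)) with h | h
    · exfalso
      rw [Subgroup.map_eq_bot_iff, QuotientGroup.ker_mk'] at h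
      have hg : ∀ {k : ℕ}, k < 9 → 2 ≤ k → gen k ∈ subA := fun hk hk' =>
        perp22_le (Subgroup.subset_closure (gen_mem_nbr hk hk'))
      have hc := Subgroup.mem_center_iff.1 (h (Subgroup.mem_subgroupOf.2 (Subgroup.subset_closure
        (gen_mem_nbr (k := 2) (by norm_num) le_rfl)) : (⟨gen 2, hg (by norm_num) le_rfl⟩ : subA) ∈ _))
        ⟨gen 3, hg (by norm_num) (by norm_num)⟩
      have := (TypeM22.gen_commute (k := 3) (l := 2) (by norm_num) (by norm_num) (by norm_num)).1
        (congrArg Subtype.val hc)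
      revert this; decide +kernel
    · have := congrArg (Subgroup.comap (QuotientGroup.mk' (Subgroup.center subA))) h
      rwa [Subgroup.comap_map_eq, QuotientGroup.ker_mk', Subgroup.comap_top] at this
  exact le_antisymm perp22_le (Subgroup.subgroupOf_eq_top.1 (cover_top Fi22USix.subA_cover L hle))

theorem gen0_mem : gen 0 ∈ subA := by
  rw [← centralizer_central]; exact Subgroup.mem_centralizer_singleton_iff.2 rfl

theorem center_subA : Subgroup.center subA = (Subgroup.zpowers (gen 0)).subgroupOf subA := by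
  have hmem : (⟨gen 0, gen0_mem⟩ : subA) ∈ Subgroup.center subA :=
    Subgroup.mem_center_iff.2 fun y => Subtype.ext (Fi22USix.comm_central _ y.2)
  haveI : Fact (Nat.card (Subgroup.center subA)).Prime := ⟨Fi22USix.subA_cover.1 ▸ Nat.prime_two⟩
  haveI : Finite (Subgroup.center subA) := inferInstance
  refine le_antisymm (fun x hx => ?_) fun x hx => ?_
  · obtain ⟨k, hk⟩ := mem_zpowers_of_prime_card (p := Nat.card (Subgroup.center subA)) rfl
      (g := (⟨_, hmem⟩ : Subgroup.center subA)) (g' := ⟨x, hx⟩)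
      fun e => Fi22Pres.first_facts.2 (congrArg (fun z : Subgroup.center subA => ((z : subA) : Fi22)) e)
    exact Subgroup.mem_subgroupOf.2 ⟨k, congrArg (fun z : Subgroup.center subA => ((z : subA) : Fi22)) hk⟩
  · obtain ⟨k, hk⟩ := Subgroup.mem_subgroupOf.1 hx
    rw [show x = (⟨gen 0, gen0_mem⟩ : subA) ^ k from Subtype.ext hk.symm]
    exact zpow_mem hmem k

theorem subA_perfect : Group.IsPerfect subA := by
  obtain ⟨hc2, ⟨q⟩, hns⟩ := Fi22USix.subA_cover
  refine ⟨cover_top Fi22USix.subA_cover _ ?_⟩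
  haveI := Fi22USix.psu_simple
  have hp : commutator (Cfsg.PSU 6 K4 2) = ⊤ := by
    refine (Subgroup.Normal.eq_bot_or_eq_top (inferInstance : (commutator _).Normal)).resolve_left fun h => ?_
    have h' := (commutator_eq_bot_iff_center_eq_top (G := Cfsg.PSU 6 K4 2)).1 h
    rw [Fi22USix.psu_center] at h'
    exact bot_ne_top h'
  have h2 : (commutator subA).map (q.toMonoidHom.comp (QuotientGroup.mk' (Subgroup.center subA))) = ⊤ := by
    rw [← hp, commutator_def, commutator_def, Subgroup.map_commutator,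
      Subgroup.map_top_of_surjective (q.toMonoidHom.comp (QuotientGroup.mk' (Subgroup.center subA)))
        (q.surjective.comp (QuotientGroup.mk'_surjective _))]
  have := congrArg (Subgroup.comap (q.toMonoidHom.comp (QuotientGroup.mk' (Subgroup.center subA)))) h2
  have hk : (q.toMonoidHom.comp (QuotientGroup.mk' (Subgroup.center subA))).ker = Subgroup.center subA := by
    ext x
    rw [MonoidHom.mem_ker, MonoidHom.comp_apply, QuotientGroup.mk'_apply, MulEquiv.coe_toMonoidHom,
      map_eq_one_iff q q.injective, QuotientGroup.eq_one_iff]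
  rw [Subgroup.comap_map_eq, Subgroup.comap_top, hk] at this
  exact this

theorem subA_quasisimple : IsQuasisimple subA := by
  obtain ⟨-, ⟨q⟩, -⟩ := Fi22USix.subA_cover
  haveI := Fi22USix.psu_simple
  haveI : Nontrivial (subA ⧸ Subgroup.center subA) := q.toEquiv.nontrivial
  exact ⟨subA_perfect, IsSimpleGroup.isSimpleGroup_of_surjective q.symm.toMonoidHom q.symm.surjective⟩

theorem width22 : commutingWidth transClass = 22 := by
  classical
  have hle : ∀ n, (∃ E : Set Fi22, E ⊆ transClass ∧ E.Finite ∧ (∀ a ∈ E, ∀ b ∈ E, Commute a b) ∧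
      E.ncard = n) → n ≤ 22 := by
    rintro n ⟨E, hE, hfin, hc, rfl⟩
    let S : Finset M23.Pt := Finset.univ.filter fun x => M23.tr x ∈ E
    have hS : E ⊆ ↑(S.image M23.tr) := fun y hy => by
      obtain ⟨x, rfl⟩ := M23.exists_tr (hE hy)
      exact Finset.mem_coe.2 (Finset.mem_image_of_mem _ (by simp [S, hy]))
    refine ((Set.ncard_le_ncard hS (Finset.finite_toSet _)).trans (Set.ncard_coe_finset _).le).trans
      (Finset.card_image_le.trans (M23.clique_le S fun a ha b hb => ?_))
    simp only [S, Finset.mem_filter] at ha hb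
    exact hc _ ha.2 _ hb.2
  refine le_antisymm (csSup_le ⟨0, ∅, Set.empty_subset _, Set.finite_empty, by simp, Set.ncard_empty _⟩ hle)
    (le_csSup ⟨22, hle⟩ ?_)
  obtain ⟨S, hS, hc⟩ := M23.clique_exists
  refine ⟨↑(S.image M23.tr), ?_, Finset.finite_toSet _, ?_, ?_⟩
  · intro y hy
    obtain ⟨x, -, rfl⟩ := Finset.mem_image.1 hy
    exact M23.tr_mem x
  · intro y hy z hz
    obtain ⟨a, ha, rfl⟩ := Finset.mem_image.1 hy
    obtain ⟨b, hb, rfl⟩ := Finset.mem_image.1 hz
    exact hc a ha b hb
  · rw [Set.ncard_coe_finset, Finset.card_image_of_injective _ fun a b h => M23.tr_inj h, hS]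

variable {G : Type*} [Group G]

theorem image_nbr_equiv (Φ : Fi22 ≃* G) (S : Set Fi22) (x : Fi22) :
    Φ '' nbr S x = nbr (Φ '' S) (Φ x) := by
  ext y
  obtain ⟨z, rfl⟩ := Φ.surjective y
  simp only [Φ.injective.mem_set_image, Set.mem_ofPred_eq, Φ.injective.ne_iff]
  refine and_congr Iff.rfl (and_congr Iff.rfl ⟨fun h => h.map Φ.toMonoidHom, fun h => ?_⟩)
  have h' := h.map Φ.symm.toMonoidHom
  simpa using h'

/-- the facts, in a group which is Fi22 with its class -/
theorem facts_of_iso [Finite G] (Φ : Fi22 ≃* G) {D : Set G} (hD : Φ '' transClass = D) :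
    IsSimpleGroup G ∧ D.ncard = 3510 ∧ Nat.card G = 2 ^ 17 * 3 ^ 9 * 5 ^ 2 * 7 * 11 * 13 ∧
      commutingWidth D = 22 ∧
      ∀ d ∈ D, Subgroup.closure (nbr D d) = Subgroup.centralizer ({d} : Set G) ∧
        d ∈ Subgroup.closure (nbr D d) ∧
        IsQuasisimple ↥(Subgroup.closure (nbr D d)) ∧
        Subgroup.center ↥(Subgroup.closure (nbr D d)) =
          (Subgroup.zpowers d).subgroupOf (Subgroup.closure (nbr D d)) := by
  subst hD
  haveI : IsSimpleGroup Fi22 := Fi22Pres.isFi22.1
  haveI : Nontrivial G := Φ.symm.toEquiv.nontrivial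
  refine ⟨IsSimpleGroup.isSimpleGroup_of_surjective Φ.toMonoidHom Φ.surjective, ?_, ?_, ?_, ?_⟩
  · rw [Set.ncard_image_of_injective _ Φ.injective, ← Nat.card_coe_set_eq, transClass_card]
  · rw [← Nat.card_congr Φ.toEquiv, Fi22Pres.card_faithful.1]
    norm_num
  · rw [← width22]
    unfold Cfsg.commutingWidth
    congr 1
    ext n
    constructor
    · rintro ⟨E, hE, hf, hc, rfl⟩
      refine ⟨Φ ⁻¹' E, fun x hx => Φ.injective.mem_set_image.1 (hE hx), hf.preimage Φ.injective.injOn,
        fun a ha b hb => ?_, Set.ncard_preimage_of_injective_subset_range Φ.injective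
          (fun y _ => Φ.surjective y)⟩
      have h' := (hc _ ha _ hb).map Φ.symm.toMonoidHom
      simpa using h'
    · rintro ⟨E, hE, hf, hc, rfl⟩
      refine ⟨Φ '' E, Set.image_mono hE, hf.image _, ?_, Set.ncard_image_of_injective _ Φ.injective⟩
      rintro - ⟨a, ha, rfl⟩ - ⟨b, hb, rfl⟩
      exact (hc a ha b hb).map Φ.toMonoidHom
  · rintro - ⟨x, hx, rfl⟩
    obtain ⟨g, rfl⟩ := isConj_iff.1 (hx : IsConj (gen 0) x)
    let Ψ : Fi22 ≃* G := (MulAut.conj g).trans Φ
    have hΨ : Φ '' transClass = Ψ '' transClass := by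
      have hcl : (fun y => g * y * g⁻¹) '' transClass = transClass := by
        ext y
        exact ⟨fun ⟨z, hz, e⟩ => e ▸ class22_conj g hz,
          fun hy => ⟨g⁻¹ * y * g⁻¹⁻¹, class22_conj _ hy, by simp [mul_assoc]⟩⟩
      conv_lhs => rw [← hcl, Set.image_image]
      rfl
    have hcl' : Subgroup.closure (nbr (Φ '' transClass) (Φ (g * gen 0 * g⁻¹))) =
        (perpGroup transClass (gen 0)).map Ψ.toMonoidHom := by
      rw [hΨ, show Φ (g * gen 0 * g⁻¹) = Ψ (gen 0) from rfl, ← image_nbr_equiv, perpGroup,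
        MonoidHom.map_closure]
      rfl
    rw [hcl', show Φ (g * gen 0 * g⁻¹) = Ψ (gen 0) from rfl, perp22_eq]
    let ε := subA.equivMapOfInjective Ψ.toMonoidHom Ψ.injective
    refine ⟨?_, ⟨gen 0, gen0_mem, rfl⟩, Layer.isQuasisimple_of_mulEquiv ε subA_quasisimple, ?_⟩
    · rw [← centralizer_central]
      ext y
      rw [Subgroup.mem_map_equiv, Subgroup.mem_centralizer_singleton_iff, Subgroup.mem_centralizer_singleton_iff,
        ← Ψ.injective.eq_iff, map_mul, map_mul, Ψ.apply_symm_apply]
    · ext y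
      obtain ⟨z, rfl⟩ := ε.surjective y
      have hz : ε z ∈ Subgroup.center _ ↔ z ∈ Subgroup.center _ := by
        simp only [Subgroup.mem_center_iff]
        refine ⟨fun h w => ε.injective ?_, fun h w => ?_⟩
        · simpa only [map_mul] using h (ε w)
        · obtain ⟨w, rfl⟩ := ε.surjective w
          simpa only [← map_mul] using congrArg ε (h w)
      rw [hz, center_subA, Subgroup.mem_subgroupOf, Subgroup.mem_subgroupOf,
        show ((ε z : _) : G) = Ψ.toMonoidHom (z : Fi22) from rfl,
        show Ψ (gen 0) = Ψ.toMonoidHom (gen 0) from rfl, ← MonoidHom.map_zpowers]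
      exact (Subgroup.mem_map_iff_mem Ψ.injective).symm

end CfsgLib.TypeM22
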