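import Cfsg.Agent.Lib.TypeM22.Spider
import Cfsg.Agent.Lib.Fi22USix.TransClass

/-!
Groups of type M(22) are isomorphic to the presented Fischer group Fi22.
-/

set_option autoImplicit false
set_option linter.unusedSectionVars false
set_option maxRecDepth 100000

namespace CfsgLib.TypeM22

open Cfsg Cfsg.Spor
open CfsgLib.ThreeTransp
open CfsgLib.CosetEnum (prodW prodW_nil prodW_cons prodW_append powWord genOf coxLabel_self)
open CfsgLib.Fi22Pres (letters gen extraW extraWords)
open CfsgLib.Fi22USix (transClass)
open CfsgLib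

/-- the number of a generator -/
def idx (x : Fi22.Gen) : ℕ := letters.idxOf x

theorem idx_lt : ∀ x : Fi22.Gen, idx x < 9 := by intro x; cases x <;> decide

theorem coxLabel_eq : ∀ x y : Fi22.Gen, coxLabel Fi22.edges x y =
    if x = y then 1 else if edge (idx x) (idx y) then 3 else 2 := by
  intro x y; cases x <;> cases y <;> decide +kernel

theorem genOf_idx {P : Type*} [Group P] (t : ℕ → P) {g : ℕ} (hg : g < 9) :
    genOf letters (fun x => t (idx x)) g = t g := by
  interval_cases g <;> rfl

theorem prodW_genOf {P : Type*} [Group P] (t : ℕ → P) :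
    ∀ {w : List ℕ}, ok9 w = true → prodW (genOf letters fun x => t (idx x)) w = prodW t w := by
  intro w
  induction w with
  | nil => intro _; rfl
  | cons g w ih =>
    intro h
    simp only [ok9, List.all_cons, Bool.and_eq_true, Nat.blt_eq] at h
    rw [prodW_cons, prodW_cons, genOf_idx t h.1, ih (by simpa [ok9] using h.2)]

variable {G : Type*} [Group G] [Finite G] {D : Set G}

/-- A group of type M(22) is the presented Fischer group, with the transpositions corresponding. -/
theorem recognition (hD : Cfsg.IsThreeTranspositionGroup D) (hprim : Cfsg.IsPrimitiveUnderConj D)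
    (ht : Cfsg.IsOfTypeM22 G D) : ∃ e : Fi22 ≃* G, e '' transClass = D := by
  have X : Ctx D := ⟨hD, hprim, ht⟩
  obtain ⟨a, ha, -⟩ := hprim.2.1
  obtain ⟨x, C, hx0⟩ := exists_config X ha
  have H := C.cox hD.1
  let f : Fi22.Gen → G := fun y => x (idx y)
  have hf : ∀ y, f y * f y = 1 := fun y => H.sq _ (idx_lt y)
  have hrels : ∀ r ∈ coxRelators Fi22.edges ∪ {r | r ∈ Fi22.extra}, FreeGroup.lift f r = 1 := by
    rintro r (⟨u, -, v, -, rfl⟩ | hr)
    · rw [map_pow, map_mul, FreeGroup.lift_apply_of, FreeGroup.lift_apply_of, coxLabel_eq]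
      by_cases huv : u = v
      · subst huv; rw [if_pos rfl, pow_one]; exact hf u
      rw [if_neg huv]
      cases hE : edge (idx u) (idx v)
      · rw [if_neg (by simp), pow_two]
        have hcm := H.comm _ (idx_lt u) _ (idx_lt v) hE
        rw [hcm.symm.mul_mul_mul_comm]
        show f u * f u * (f v * f v) = 1
        rw [hf, hf, one_mul]
      · rw [if_pos rfl]
        exact mul_pow_three_of_not_commute hD.1 (C.mem (idx_lt u)) (C.mem (idx_lt v)) fun h => by
          rw [(C.comm (idx_lt u) (idx_lt v)).1 h] at hE; exact Bool.noConfusion hE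
    · have he := extraWords
      unfold CosetEnum.ExtraWords Fi22.extra extraW at he
      rw [List.forall₂_cons] at he
      obtain ⟨e1, he⟩ := he
      rw [List.forall₂_cons] at he
      obtain ⟨e2, he⟩ := he
      rw [List.forall₂_cons] at he
      obtain ⟨e3, -⟩ := he
      simp only [Set.mem_ofPred_eq, Fi22.extra, List.mem_cons, List.not_mem_nil, or_false] at hr
      let ψ : G ≃* Shrink.{0} G := Shrink.mulEquiv.symm
      have hψf : ∀ y, ψ (f y) * ψ (f y) = 1 := fun y => by rw [← map_mul, hf, map_one]
      have hlift : ∀ r, FreeGroup.lift (fun y => ψ (f y)) r = ψ (FreeGroup.lift f r) := fun r =>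
        DFunLike.congr_fun (FreeGroup.ext_hom _ (ψ.toMonoidHom.comp (FreeGroup.lift f))
          fun y => by simp) r
      have key : ∀ {w : List ℕ}, ok9 w = true → prodW x w = 1 → ∀ r,
          FreeGroup.lift (fun y => ψ (f y)) r = prodW (genOf letters fun y => ψ (f y)) w →
            FreeGroup.lift f r = 1 := fun {w} hw h1 r e => ψ.injective (by
        rw [← hlift, e, prodW_genOf (fun i => ψ (x i)) hw, map_one, ← map_one ψ, ← h1, ← MulEquiv.coe_toMonoidHom,
          CosetEnum.map_prodW])
      rcases hr with rfl | rfl | rfl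
      · exact key (by decide +kernel) (spider_one X C) _ (e1 _ _ hψf)
      · exact key (by decide +kernel) (cox_one X C) _ (e2 _ _ hψf)
      · exact key (by decide +kernel) (cox_two X C) _ (e3 _ _ hψf)
  let s : Fi22 →* G := PresentedGroup.toGroup hrels
  have hs : ∀ k < 9, s (gen k) = x k := fun k hk => by
    interval_cases k <;> exact PresentedGroup.toGroup.of hrels
  have hsurj : Function.Surjective s := by
    rw [← MonoidHom.range_eq_top, eq_top_iff, ← gen_top X C, span9, Subgroup.closure_le]
    rintro _ ⟨k, hk, rfl⟩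
    exact ⟨gen k, hs k hk⟩
  haveI := Fi22Pres.isFi22.1
  have hinj : Function.Injective s := by
    rcases Subgroup.Normal.eq_bot_or_eq_top (inferInstance : s.ker.Normal) with h | h
    · exact (MonoidHom.ker_eq_bot_iff s).1 h
    · exfalso
      obtain ⟨p, hp, q, hq, hpq⟩ := hprim.2.1
      obtain ⟨p', rfl⟩ := hsurj p
      have : p' ∈ s.ker := h ▸ Subgroup.mem_top p'
      exact ne_one_of_mem hD.1 hp this
  let e := MulEquiv.ofBijective s ⟨hinj, hsurj⟩
  refine ⟨e, Set.ext fun y => ?_⟩
  have hgen : e (gen 0) = a := (hs 0 (by norm_num)).trans hx0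
  constructor
  · rintro ⟨t, ht', rfl⟩
    obtain ⟨g, rfl⟩ := isConj_iff.1 (show IsConj (gen 0) t from ht')
    rw [map_mul, map_mul, map_inv, hgen]
    exact hD.2.1 _ a ha
  · intro hy
    obtain ⟨g, rfl⟩ := hprim.1 a ha y hy
    refine ⟨e.symm g * gen 0 * (e.symm g)⁻¹, isConj_iff.2 ⟨_, rfl⟩, ?_⟩
    rw [map_mul, map_mul, map_inv, hgen, e.apply_symm_apply]

end CfsgLib.TypeM22
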