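import Cfsg.Agent.Lib.TypeM22.ConfigData
import Cfsg.Agent.Lib.Fi23Mult.Moves
import Cfsg.Agent.Lib.CosetEnum.Words

/-!
Configurations of nine transpositions with the diagram of Fi22, and consequences of rewriting certificates.
-/

set_option autoImplicit false
set_option Elab.async false
set_option maxRecDepth 100000
set_option maxHeartbeats 4000000

namespace CfsgLib.TypeM22

open Cfsg
open CfsgLib.CosetEnum (prodW prodW_nil prodW_cons prodW_append powWord prodW_powWord)
open CfsgLib.Fi23Mult (CoxLifts reduces reduces_prod)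
open CfsgLib.ThreeTransp

/-- the edges of the diagram -/
def edgeList : List (ℕ × ℕ) := [(0, 1), (1, 2), (2, 3), (3, 4), (4, 5), (5, 6), (3, 7), (7, 8)]

/-- adjacency in the diagram -/
def edge (i j : ℕ) : Bool :=
  edgeList.any fun p => (Nat.beq p.1 i && Nat.beq p.2 j) || (Nat.beq p.1 j && Nat.beq p.2 i)

/-- the word of a conjugate -/
def tw (u : List ℕ) (g : ℕ) : List ℕ := u ++ g :: u.reverse

/-- letters among the nine -/
def ok9 (u : List ℕ) : Bool := u.all fun g => Nat.blt g 9

theorem ok9_iff {u : List ℕ} : ok9 u = true ↔ ∀ g ∈ u, g < 9 := by simp [ok9, List.all_eq_true, Nat.blt_eq]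

variable {G : Type*} [Group G] {D : Set G}

/-- nine transpositions commuting as in the diagram -/
structure Config (D : Set G) (x : ℕ → G) : Prop where
  mem : ∀ {i}, i < 9 → x i ∈ D
  ne : ∀ {i j}, i < 9 → j < 9 → i ≠ j → x i ≠ x j
  comm : ∀ {i j}, i < 9 → j < 9 → (Commute (x i) (x j) ↔ edge i j = false)

theorem Config.conj {x : ℕ → G} (hc : IsConjClosed D) (C : Config D x) (g : G) :
    Config D fun i => g * x i * g⁻¹ where
  mem hi := hc g _ (C.mem hi)
  ne hi hj h e := C.ne hi hj h (by simpa using e)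
  comm hi hj := by
    rw [← C.comm hi hj]
    refine ⟨fun h => ?_, fun h => h.map (MulAut.conj g)⟩
    have := h.map (MulAut.conj g⁻¹)
    simpa [mul_assoc] using this

theorem prodW_conj (g : G) (x : ℕ → G) : ∀ w : List ℕ,
    prodW (fun i => g * x i * g⁻¹) w = g * prodW x w * g⁻¹
  | [] => by simp
  | i :: w => by rw [prodW_cons, prodW_cons, prodW_conj g x w]; group

theorem prodW_map (x : ℕ → G) (f : ℕ → ℕ) (w : List ℕ) : prodW x (w.map f) = prodW (fun i => x (f i)) w := by
  simp [prodW, List.map_map, Function.comp_def]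

theorem prodW_congr {x y : ℕ → G} {w : List ℕ} (h : ∀ i ∈ w, x i = y i) : prodW x w = prodW y w := by
  simp only [prodW]; rw [List.map_congr_left h]

theorem commute_prodW {x : ℕ → G} {z : G} : ∀ {w : List ℕ}, (∀ i ∈ w, Commute z (x i)) → Commute z (prodW x w)
  | [], _ => by simp
  | i :: w, h => by
    rw [prodW_cons]
    exact (h i (List.mem_cons_self ..)).mul_right (commute_prodW fun j hj => h j (List.mem_cons_of_mem _ hj))

variable {x : ℕ → G} (hS : IsThreeTranspositionSet D) (C : Config D x)
include hS C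

theorem Config.cox : CoxLifts edge 9 x where
  sq i hi := mul_self_eq_one hS (C.mem hi)
  comm i hi j hj h := (C.comm hi hj).2 h
  braid i hi j hj h := braid hS (C.mem hi) (C.mem hj) fun hc => by simp [(C.comm hi hj).1 hc] at h

theorem Config.rev : ∀ {w : List ℕ}, (∀ i ∈ w, i < 9) → prodW x w.reverse = (prodW x w)⁻¹
  | [], _ => by simp
  | i :: w, h => by
    rw [List.reverse_cons, prodW_append, Config.rev fun j hj => h j (List.mem_cons_of_mem _ hj), prodW_cons,
      prodW_cons, prodW_nil, mul_one, mul_inv_rev, inv_eq_self hS (C.mem (h i (List.mem_cons_self ..)))]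

theorem Config.tw_eq {u : List ℕ} {g : ℕ} (h : ok9 u = true) :
    prodW x (tw u g) = prodW x u * x g * (prodW x u)⁻¹ := by
  rw [tw, prodW_append, prodW_cons, C.rev hS (ok9_iff.1 h), mul_assoc]

theorem Config.eq_of {ms : List (List ℕ)} {u v : List ℕ} (hv : ok9 v = true)
    (h : reduces edge 9 ms (u ++ v.reverse) = true) : prodW x u = prodW x v := by
  have := reduces_prod (C.cox hS) h
  rwa [prodW_append, C.rev hS (ok9_iff.1 hv), mul_inv_eq_one] at this

theorem Config.comm_of {ms : List (List ℕ)} {u v : List ℕ} (hu : ok9 u = true) (hv : ok9 v = true)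
    (h : reduces edge 9 ms (u ++ v ++ u.reverse ++ v.reverse) = true) :
    Commute (prodW x u) (prodW x v) := by
  have := reduces_prod (C.cox hS) h
  rw [prodW_append, prodW_append, prodW_append, C.rev hS (ok9_iff.1 hu), C.rev hS (ok9_iff.1 hv),
    mul_inv_eq_one, mul_inv_eq_iff_eq_mul] at this
  exact this

theorem Config.not_comm_of {ms ms' : List (List ℕ)} {v u w : List ℕ} {i j : ℕ} (hv : ok9 v = true)
    (hu : ok9 u = true) (hw : ok9 w = true) (hij : ¬ Commute (x i) (x j))
    (h1 : reduces edge 9 ms (tw v i ++ u.reverse) = true)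
    (h2 : reduces edge 9 ms' (tw v j ++ w.reverse) = true) : ¬ Commute (prodW x u) (prodW x w) := by
  rw [← C.eq_of hS hu h1, ← C.eq_of hS hw h2, C.tw_eq hS hv, C.tw_eq hS hv]
  intro h
  refine hij ?_
  have := h.map (MulAut.conj (prodW x v)⁻¹)
  simpa [mul_assoc] using this

end CfsgLib.TypeM22
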