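import Cfsg.Agent.Lib.TypeM22.Checks
import Cfsg.Agent.Lib.TypeM22.Words

/-!
Checks for the points of a configuration in normal form, and of its certificates.
-/

set_option autoImplicit false
set_option Elab.async false
set_option maxRecDepth 100000
set_option maxHeartbeats 4000000

namespace CfsgLib.TypeM22

open CfsgLib.CosetEnum (powWord)
open CfsgLib.Fi23Mult (reduces)

/-- the normal forms: a path of six with a set of points -/
def finals : List (List ℕ × List ℕ) :=
  pathAll.flatMap fun ns => (ns.filter fun n => n.low.isNone).map fun n => ((nodeAt ns 0).seed, n.L)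

/-- the candidates for the third member -/
def cCands (six : List ℕ) : List ℕ :=
  (List.range 693).filter fun v => fitB [false, false, false, true, false, false] six v

/-- the points of the generators from the third on -/
def basePt (six : List ℕ) (k : ℕ) : ℕ :=
  [0, 0, (cCands six).headD 0, six.getD 3 0, six.getD 2 0, six.getD 1 0, six.getD 0 0, six.getD 4 0,
    six.getD 5 0].getD k 0

/-- the conjugator of t -/
def tU : List ℕ := tWord.take 8

/-- the conjugator of s -/
def sU : List ℕ := [2, 3, 7, 4, 3, 2]

/-- the members of the set whose image under s is in the set -/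
def wits (six L : List ℕ) : List ℕ :=
  L.filter fun y => L.contains (act (sU.reverse.map (basePt six)) y)

/-- the candidates for t -/
def tCands (six L : List ℕ) : List ℕ :=
  (List.range 693).filter fun v =>
    ([2, 3, 4, 5, 6, 7, 8].all fun k => perpB v (basePt six k) == !(Nat.beq k 5 || Nat.beq k 8)) &&
      (wits six L).all fun y => perpB y v

/-- the points of the generators and of t, numbered nine -/
def cpt (c : List ℕ × List ℕ) (k : ℕ) : ℕ := bif Nat.beq k 9 then (tCands c.1 c.2).headD 0 else basePt c.1 k

/-- the product of the frame, with nine standing for t -/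
def frameW : List ℕ := frames.flatMap fun p => tw p.1 p.2

/-- t written out -/
def expandT (w : List ℕ) : List ℕ := w.flatMap fun k => bif Nat.beq k 9 then tWord else [k]

/-- the conjugator of theta -/
def thU : List ℕ := thWord.take 10

/-- the letter of theta -/
def thG : ℕ := thWord.getD 10 0

/-- the checks of a case -/
noncomputable def caseChk (c : List ℕ × List ℕ) (span : List ℕ) : Bool :=
  decide (c.1.length = 6) && (c.1.all fun u => c.2.contains u) && decide ((cCands c.1).length = 1) &&
    !c.2.contains (cpt c 2) && decide ((tCands c.1 c.2).length = 1) &&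
    ([2, 3, 4, 5, 6, 7, 8, 9].all fun k => Nat.blt (cpt c k) 693) &&
    ([2, 3, 4, 5, 6, 7, 8].all fun k => [2, 3, 4, 5, 6, 7, 8].all fun l =>
      Nat.beq k l || (!Nat.beq (cpt c k) (cpt c l) && (perpB (cpt c k) (cpt c l) == !edge k l))) &&
    !c.2.contains (act (thU.map (cpt c)) (cpt c thG)) &&
    ([2, 3, 4, 5, 6, 7, 8, 9].all fun k => Nat.beq (act (frameW.map (cpt c)) (cpt c k)) (cpt c k)) &&
    CosetEnum.strict (grow span (maskOf ([2, 3, 4, 5, 6, 7, 8, 9].map (cpt c)))) fun M =>
      (List.range 693).all (has M)

theorem cases_ok : finals.length = spanData.length ∧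
    ((List.zip finals spanData).all fun p => caseChk p.1 p.2) = true := by decide +kernel

/-- an example of a path of six -/
def sixRef : List ℕ := ((pathTree.map fun l => l.2.headD ([], [])).map fun e =>
  (e.2.headD (0, [])).1)

/-- the indices along the path -/
def sixIdx : List ℕ := [6, 5, 4, 3, 7, 8]

theorem sixRef_ok : fits pathBits [] sixRef = true ∧ sixRef.length = 6 ∧ sixRef.Nodup ∧
    ((List.range 6).all fun m => (List.range 6).all fun n => Nat.blt (sixRef.getD m 0) 693 &&
      (perpB (sixRef.getD m 0) (sixRef.getD n 0) == !edge (sixIdx.getD m 0) (sixIdx.getD n 0))) = true := by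
  decide +kernel

theorem words_ok : tw tU 0 = tWord ∧ ok9 tWord = true ∧ tw thU thG = thWord ∧ ok9 thWord = true ∧
    ((thG :: thU).all fun k => Nat.ble 2 k && Nat.blt k 9) = true ∧
    (frameW.all fun k => Nat.ble 2 k && Nat.blt k 10) = true ∧ ok9 tPair5 = true ∧ ok9 tPair8 = true ∧
    ok9 (expandT frameW) = true := by decide +kernel

theorem t_moves : reduces edge 9 tCom0 (tWord ++ [0] ++ tWord.reverse ++ [0]) = true ∧
    reduces edge 9 tCom6 (tWord ++ [6] ++ tWord.reverse ++ [6]) = true ∧
    reduces edge 9 tCom2 (tWord ++ [2] ++ tWord.reverse ++ [2]) = true ∧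
    reduces edge 9 tCom3 (tWord ++ [3] ++ tWord.reverse ++ [3]) = true ∧
    reduces edge 9 tCom4 (tWord ++ [4] ++ tWord.reverse ++ [4]) = true ∧
    reduces edge 9 tCom7 (tWord ++ [7] ++ tWord.reverse ++ [7]) = true := by decide +kernel

theorem t_pairs : reduces edge 9 tPairA5 (tw tPair5 0 ++ tWord.reverse) = true ∧
    reduces edge 9 tPairB5 (tw tPair5 1 ++ [5]) = true ∧
    reduces edge 9 tPairA8 (tw tPair8 0 ++ tWord.reverse) = true ∧
    reduces edge 9 tPairB8 (tw tPair8 1 ++ [8]) = true ∧
    reduces edge 9 tDec (([1, 0] ++ tw sU 1 ++ [0, 1]) ++ tWord.reverse) = true := by decide +kernel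

theorem z_moves :
    reduces edge 9 zOne (powWord [0, 1, 2, 3, 4, 5, 7] 9 ++ (0 :: expandT frameW).reverse) = true ∧
    reduces edge 9 zOneB (powWord [0, 1, 2, 3, 4, 5, 7] 9 ++ [1] ++
      (powWord [0, 1, 2, 3, 4, 5, 7] 9).reverse ++ [1]) = true ∧
    reduces edge 9 zTwo (powWord [1, 2, 3, 4, 5, 6, 7] 9 ++ (powWord [6, 5, 4, 3, 2, 1, 7] 9).reverse) = true := by
  decide +kernel

end CfsgLib.TypeM22
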