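import Cfsg.Agent.Lib.TypeM22.TriData
import Cfsg.Agent.Lib.TypeM22.ConfigChecks
import Cfsg.Agent.Lib.M23.Graph
import Cfsg.Agent.Lib.CosetEnum.OrbitTables

/-!
Checks for the classes of involutions in groups of type M(22).
-/

set_option autoImplicit false
set_option Elab.async false
set_option maxRecDepth 100000
set_option maxHeartbeats 4000000

namespace CfsgLib.TypeM22

open CfsgLib.CosetEnum (allUp countUp)

theorem triTree_ok : treeChk triTree [[]] = true ∧ leaves triTree [[]] = [[0, 2, 4, 13]] := by decide +kernel

theorem triTree_take : treeChk (triTree.take 1) [[]] = true ∧ leaves (triTree.take 1) [[]] = [[0]] ∧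
    treeChk (triTree.take 2) [[]] = true ∧ leaves (triTree.take 2) [[]] = [[0, 2]] := by decide +kernel

/-- the points of the last three members of the frame -/
def restPts (c : List ℕ × List ℕ) : List ℕ :=
  (frames.drop 3).map fun p => act (p.1.map (cpt c)) (cpt c p.2)

theorem rest_ok : (finals.all fun c => decide (restPts c).Nodup &&
    (restPts c).all fun u => (restPts c).all fun v => perpB u v) = true := by decide +kernel

theorem frames_ok : frames.take 3 = [([], 2), ([], 4), ([], 7)] ∧
    ((frames.drop 3).all fun p => (p.2 :: p.1).all fun k => Nat.ble 2 k && Nat.blt k 10) = true := by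
  decide +kernel

/-- a point fixed by a product of transpositions -/
noncomputable def fixB (zs : List ℕ) (y : ℕ) : Bool :=
  Nat.blt y 3510 && Nat.beq (zs.foldr (fun z v => M23.actPt z v) y) y

/-- three pairwise commuting transpositions -/
def threePts : List ℕ := [0, 7, 31]

/-- the fixed points of the three products -/
noncomputable def fixCount (m : ℕ) : ℕ := countUp (fixB (threePts.take m)) 12 0

theorem fixCount_ne : Nat.beq (fixCount 1) (fixCount 2) = false ∧ Nat.beq (fixCount 1) (fixCount 3) = false ∧
    Nat.beq (fixCount 2) (fixCount 3) = false := by decide +kernel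

theorem threePts_ok : (threePts.all fun a => Nat.blt a 3510 && threePts.all fun b => Nat.beq a b || M23.comB a b) = true ∧
    threePts.Nodup := by decide +kernel

end CfsgLib.TypeM22
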