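import Cfsg.Agent.Lib.TypeM22.Model

/-!
An involution of the projective special unitary group of degree six over four elements is a product of at
most three commuting transvections with independent centres.
-/

set_option autoImplicit false
set_option linter.unusedSectionVars false

namespace CfsgLib.TypeM22

open Cfsg Matrix CfsgLib.Classical.Herm
open CfsgLib.Fi22USix (pt code lk pr mem_pr lk_smul exists_pt pt_ne pt_iso pr_pt_inj)
open CfsgLib.HePres (K4)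

local notation "h" => hermForm 6 K4 2

theorem lift_invol {x : PSU6} (hx : x * x = 1) : ∃ g : SU6, g * g = 1 ∧ (g : PSU6) = x := by
  obtain ⟨K⟩ := exists_conj_of_card (F := K4) (q := 2) (by rw [K4.card_eq]; norm_num)
  obtain ⟨g₀, rfl⟩ := QuotientGroup.mk_surjective x
  have hz : g₀ * g₀ ∈ Subgroup.center SU6 := by
    rwa [← QuotientGroup.eq_one_iff, QuotientGroup.mk_mul]
  set z := g₀ * g₀ with hzdef
  have hz3 : z * z * z = 1 := by
    obtain ⟨c, hc⟩ := (center_iff K (by norm_num) _).1 hz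
    have hd := z.1.2
    rw [hc, Matrix.det_smul, Matrix.det_one, mul_one] at hd
    have hc3 : ∀ a : K4, a ^ Fintype.card (Fin 6) = 1 → a * (a * a) = 1 := by
      simp only [Fintype.card_fin]; decide +kernel
    refine ext_app fun x => ?_
    have e : ∀ y, app z y = c • y := fun y => by rw [app, hc, smul_mulVec, one_mulVec]
    rw [app_mul, app_mul, e, e, e, app_one, smul_smul, smul_smul, mul_assoc, hc3 c hd, one_smul]
  refine ⟨g₀ * z, ?_, by rw [QuotientGroup.mk_mul, (QuotientGroup.eq_one_iff z).2 hz, mul_one]⟩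
  have hzc : Commute z g₀ := ((Commute.refl g₀).mul_left (Commute.refl g₀))
  rw [show g₀ * z * (g₀ * z) = g₀ * (z * g₀) * z by group, hzc.eq,
    show g₀ * (g₀ * z) * z = g₀ * g₀ * z * z by group, ← hzdef, hz3]

/-- the transvection of a nonzero isotropic vector is that of a point -/
theorem tv_point {t : SU6} {v : V} (hv : v ≠ 0) (ht : IsTv t v) :
    ∃ (k : Fin 693) (c : K4), c ≠ 0 ∧ v = c • pt k ∧ (t : PSU6) = tb k := by
  obtain ⟨k, hk⟩ := exists_pt hv ht.1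
  obtain ⟨c, hc, e⟩ := mem_pr.1 (hk ▸ mem_pr.2 ⟨1, one_ne_zero, (one_smul _ _).symm⟩ : v ∈ pr (pt k))
  exact ⟨k, c, hc, e, congrArg _ (ht.unique (e ▸ (tau_spec k).smul hc))⟩

theorem perp_of_h {i j : Fin 693} {c d : K4} (hc : c ≠ 0) (hd : d ≠ 0) :
    Commute (tb i) (tb j) ↔ h (c • pt j) (d • pt i) = 0 := by
  rw [tb_comm, perpB_iff i.2 j.2, smul_left, smul_right, mul_eq_zero, mul_eq_zero]
  constructor
  · exact fun e => Or.inr (Or.inr e)
  · rintro (e | e | e)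
    · exact absurd e hc
    · exact absurd e (pow_ne_zero _ hd)
    · exact e

/-- a product of three commuting transvections with independent centres -/
def ThreeIndep (x : PSU6) : Prop :=
  ∃ i j k u : Fin 693, i ≠ j ∧ i ≠ k ∧ j ≠ k ∧ Commute (tb i) (tb j) ∧ Commute (tb i) (tb k) ∧
    Commute (tb j) (tb k) ∧ Commute (tb u) (tb i) ∧ Commute (tb u) (tb j) ∧ ¬ Commute (tb u) (tb k) ∧
    x = tb i * tb j * tb k

theorem invol_split {x : PSU6} (hx : x * x = 1) : x = 1 ∨ (∃ i, x = tb i) ∨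
    (∃ i j, i ≠ j ∧ Commute (tb i) (tb j) ∧ x = tb i * tb j) ∨ ThreeIndep x := by
  obtain ⟨g, hg, rfl⟩ := lift_invol hx
  by_cases h1 : g = 1
  · left; rw [h1, QuotientGroup.mk_one]
  obtain ⟨u₁, v₁, t₁, hgu₁, huv₁, hgv₁, ht₁, hc₁, hf₁⟩ := split_off hg h1
  have hv₁ : v₁ ≠ 0 := fun e => by rw [e, swap_h, h_zero_left] at huv₁; simp at huv₁
  obtain ⟨i, a, ha, ei, et₁⟩ := tv_point hv₁ ht₁
  set g₂ := t₁ * g with hg₂
  have hg22 : g₂ * g₂ = 1 := by
    rw [hg₂, show t₁ * g * (t₁ * g) = t₁ * (g * t₁) * g by group, ← hc₁.eq,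
      show t₁ * (t₁ * g) * g = t₁ * t₁ * (g * g) by group, ht₁.sq, hg, one_mul]
  have hgx : g = t₁ * g₂ := by rw [hg₂, ← mul_assoc, ht₁.sq, one_mul]
  by_cases h2 : g₂ = 1
  · right; left; exact ⟨i, by rw [hgx, h2, mul_one, et₁]⟩
  have hperp : ∀ {g : SU6} {u v z : V}, app g u = u + v → app g z = z → h z v = 0 := by
    intro g u v z hu hz
    have hv : v = app g u + u := by rw [hu, add_comm u, add_assoc, vec_self_add, add_zero]
    rw [hv, add_right]
    nth_rw 1 [← hz]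
    rw [h_app, self_add]
  have h2v₁ : app g₂ v₁ = v₁ := by rw [hg₂, app_mul, hgv₁, ht₁.app_fix ht₁.1]
  obtain ⟨u₂, v₂, t₂, hgu₂, huv₂, hgv₂, ht₂, hc₂, hf₂⟩ := split_off hg22 h2
  have h12 : h v₁ v₂ = 0 := hperp hgu₂ h2v₁
  have hu12 : h u₁ v₂ = 0 := hperp hgu₂ hf₁
  have h21 : h v₂ v₁ = 0 := by rw [swap_h, h12]; simp
  have hv₂ : v₂ ≠ 0 := fun e => by rw [e, swap_h, h_zero_left] at huv₂; simp at huv₂
  obtain ⟨j, b, hb, ej, et₂⟩ := tv_point hv₂ ht₂
  have hij : i ≠ j := fun e => by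
    subst e
    have e1 : h u₁ v₁ = a ^ 2 * h u₁ (pt i) := by rw [ei, smul_right]
    have e2 : h u₁ v₂ = b ^ 2 * h u₁ (pt i) := by rw [ej, smul_right]
    rw [huv₁] at e1
    rw [hu12] at e2
    rcases mul_eq_zero.1 e2.symm with e3 | e3
    · exact pow_ne_zero _ hb e3
    · rw [e3, mul_zero] at e1; exact one_ne_zero e1
  have cij : Commute (tb i) (tb j) := (perp_of_h hb ha).2 (ej ▸ ei ▸ h21)
  set g₃ := t₂ * g₂ with hg₃
  have hg33 : g₃ * g₃ = 1 := by
    rw [hg₃, show t₂ * g₂ * (t₂ * g₂) = t₂ * (g₂ * t₂) * g₂ by group, ← hc₂.eq,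
      show t₂ * (t₂ * g₂) * g₂ = t₂ * t₂ * (g₂ * g₂) by group, ht₂.sq, hg22, one_mul]
  have hgx₂ : g = t₁ * (t₂ * g₃) := by rw [hg₃, ← mul_assoc t₂, ht₂.sq, one_mul, ← hgx]
  by_cases h3 : g₃ = 1
  · right; right; left
    exact ⟨i, j, hij, cij, by rw [hgx₂, h3, mul_one, QuotientGroup.mk_mul, et₁, et₂]⟩
  have h3v₁ : app g₃ v₁ = v₁ := by rw [hg₃, app_mul, h2v₁, ht₂.app_fix h12]
  have h3v₂ : app g₃ v₂ = v₂ := by rw [hg₃, app_mul, hgv₂, ht₂.app_fix ht₂.1]
  have h3u₁ : app g₃ u₁ = u₁ := by rw [hg₃, app_mul, hf₁, ht₂.app_fix hu12]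
  obtain ⟨u₃, v₃, t₃, hgu₃, huv₃, hgv₃, ht₃, hc₃, hf₃⟩ := split_off hg33 h3
  have h13 : h v₁ v₃ = 0 := hperp hgu₃ h3v₁
  have h23 : h v₂ v₃ = 0 := hperp hgu₃ h3v₂
  have hu13 : h u₁ v₃ = 0 := hperp hgu₃ h3u₁
  have hu23 : h u₂ v₃ = 0 := hperp hgu₃ hf₂
  have h31 : h v₃ v₁ = 0 := by rw [swap_h, h13]; simp
  have h32 : h v₃ v₂ = 0 := by rw [swap_h, h23]; simp
  have hv₃ : v₃ ≠ 0 := fun e => by rw [e, swap_h, h_zero_left] at huv₃; simp at huv₃
  obtain ⟨k, c, hc, ek, et₃⟩ := tv_point hv₃ ht₃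
  set g₄ := t₃ * g₃ with hg₄
  have hg44 : g₄ * g₄ = 1 := by
    rw [hg₄, show t₃ * g₃ * (t₃ * g₃) = t₃ * (g₃ * t₃) * g₃ by group, ← hc₃.eq,
      show t₃ * (t₃ * g₃) * g₃ = t₃ * t₃ * (g₃ * g₃) by group, ht₃.sq, hg33, one_mul]
  have h4 : g₄ = 1 := by
    by_contra h4
    obtain ⟨u₄, v₄, t₄, hgu₄, huv₄, -, ht₄, -, -⟩ := split_off hg44 h4
    have hv₄ : v₄ ≠ 0 := fun e => by rw [e, swap_h, h_zero_left] at huv₄; simp at huv₄
    have a1 : h v₁ v₄ = 0 := hperp hgu₄ (by rw [hg₄, app_mul, h3v₁, ht₃.app_fix h13])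
    have a2 : h v₂ v₄ = 0 := hperp hgu₄ (by rw [hg₄, app_mul, h3v₂, ht₃.app_fix h23])
    have a3 : h v₃ v₄ = 0 := hperp hgu₄ (by rw [hg₄, app_mul, hgv₃, ht₃.app_fix ht₃.1])
    have b1 : h u₁ v₄ = 0 := hperp hgu₄ (by rw [hg₄, app_mul, h3u₁, ht₃.app_fix hu13])
    have b2 : h u₂ v₄ = 0 := hperp hgu₄ (by rw [hg₄, app_mul, hf₂, ht₃.app_fix hu23])
    have b3 : h u₃ v₄ = 0 := hperp hgu₄ hf₃
    have a1' : h v₄ v₁ = 0 := by rw [swap_h, a1]; simp
    have a2' : h v₄ v₂ = 0 := by rw [swap_h, a2]; simp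
    have a3' : h v₄ v₃ = 0 := by rw [swap_h, a3]; simp
    have b1' : h v₄ u₁ = 0 := by rw [swap_h, b1]; simp
    have b2' : h v₄ u₂ = 0 := by rw [swap_h, b2]; simp
    have b3' : h v₄ u₃ = 0 := by rw [swap_h, b3]; simp
    have li : LinearIndependent K4 ![v₁, v₂, v₃, u₁, u₂, u₃, v₄] := by
      rw [Fintype.linearIndependent_iff]
      intro f hf
      simp [Fin.sum_univ_succ] at hf
      have e : ∀ w, h _ w = h 0 w := fun w => congrArg (fun z => h z w) hf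
      simp only [add_left, smul_left, h_zero_left] at e
      have f5 : f 5 = 0 := by simpa [h13, h23, ht₃.1, hu13, hu23, huv₃, a3'] using e v₃
      have f4 : f 4 = 0 := by simpa [h12, ht₂.1, h32, hu12, huv₂, a2', f5] using e v₂
      have f3 : f 3 = 0 := by simpa [ht₁.1, h21, h31, huv₁, a1', f4, f5] using e v₁
      have x1 : h v₁ u₁ = 1 := by rw [swap_h, huv₁]; simp
      have x2 : h v₂ u₁ = 0 := by rw [swap_h, hu12]; simp
      have x3 : h v₃ u₁ = 0 := by rw [swap_h, hu13]; simp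
      have y2 : h v₂ u₂ = 1 := by rw [swap_h, huv₂]; simp
      have y3 : h v₃ u₂ = 0 := by rw [swap_h, hu23]; simp
      have z3 : h v₃ u₃ = 1 := by rw [swap_h, huv₃]; simp
      have f0 : f 0 = 0 := by simpa [x1, x2, x3, b1', f3, f4, f5] using e u₁
      have f1 : f 1 = 0 := by simpa [y2, y3, b2', f0, f3, f4, f5] using e u₂
      have f2 : f 2 = 0 := by simpa [z3, b3', f0, f1, f3, f4, f5] using e u₃
      have f6 : f 6 = 0 := by
        simp [f0, f1, f2, f3, f4, f5] at hf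
        exact hf.resolve_right hv₄
      intro q
      fin_cases q <;> assumption
    have := li.fintype_card_le_finrank
    simp at this
  have hgx₃ : g = t₁ * (t₂ * t₃) := by
    have : g₃ = t₃ := by rw [← one_mul g₃, ← ht₃.sq, mul_assoc, ← hg₄, h4, mul_one]
    rw [hgx₂, this]
  have hik : i ≠ k := fun e => by
    subst e
    have e1 : h u₁ v₁ = a ^ 2 * h u₁ (pt i) := by rw [ei, smul_right]
    have e2 : h u₁ v₃ = c ^ 2 * h u₁ (pt i) := by rw [ek, smul_right]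
    rw [huv₁] at e1
    rw [hu13] at e2
    rcases mul_eq_zero.1 e2.symm with e3 | e3
    · exact pow_ne_zero _ hc e3
    · rw [e3, mul_zero] at e1; exact one_ne_zero e1
  have hjk : j ≠ k := fun e => by
    subst e
    have e1 : h u₂ v₂ = b ^ 2 * h u₂ (pt j) := by rw [ej, smul_right]
    have e2 : h u₂ v₃ = c ^ 2 * h u₂ (pt j) := by rw [ek, smul_right]
    rw [huv₂] at e1
    rw [hu23] at e2
    rcases mul_eq_zero.1 e2.symm with e3 | e3
    · exact pow_ne_zero _ hc e3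
    · rw [e3, mul_zero] at e1; exact one_ne_zero e1
  -- the witness
  obtain ⟨y, hy⟩ : ∃ y, y = u₃ + h u₃ v₂ • u₂ + (h u₃ v₁ + h u₃ v₂ * h u₂ v₁) • u₁ := ⟨_, rfl⟩
  have y1 : h y v₁ = 0 := by
    rw [hy, add_left, add_left, smul_left, smul_left, huv₁, mul_one]; exact self_add _
  have y2 : h y v₂ = 0 := by
    rw [hy, add_left, add_left, smul_left, smul_left, huv₂, hu12, mul_one, mul_zero, add_zero, self_add]
  have y3 : h y v₃ = 1 := by
    rw [hy, add_left, add_left, smul_left, smul_left, huv₃, hu23, hu13, mul_zero, mul_zero, add_zero, add_zero]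
  have htr : ∀ a : K4, (a = 0 ∨ a = 1) → ∃ α : K4, α + α * α = a := by decide +kernel
  obtain ⟨α, hα⟩ := htr _ (h_self y)
  obtain ⟨U, hU⟩ : ∃ U, U = y + α • v₃ := ⟨_, rfl⟩
  have U1 : h U v₁ = 0 := by rw [hU, add_left, smul_left, y1, h31, mul_zero, add_zero]
  have U2 : h U v₂ = 0 := by rw [hU, add_left, smul_left, y2, h32, mul_zero, add_zero]
  have U3 : h U v₃ = 1 := by rw [hU, add_left, smul_left, y3, ht₃.1, mul_zero, add_zero]
  have UU : h U U = 0 := by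
    rw [hU, add_left, smul_left, add_right, add_right, smul_right, smul_right, ht₃.1, y3,
      show h v₃ y = 1 by rw [swap_h, y3, one_pow]]
    simpa [add_assoc] using quad _ _ hα
  have hUne : U ≠ 0 := fun e => by rw [e, h_zero_left] at U3; exact zero_ne_one U3
  obtain ⟨r, hr⟩ := exists_pt hUne UU
  obtain ⟨d, hd, er⟩ := mem_pr.1 (hr ▸ mem_pr.2 ⟨1, one_ne_zero, (one_smul _ _).symm⟩ : U ∈ pr (pt r))
  right; right; right
  refine ⟨i, j, k, r, hij, hik, hjk, cij, (perp_of_h hc ha).2 (ek ▸ ei ▸ h31),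
    (perp_of_h hc hb).2 (ek ▸ ej ▸ h32), ((perp_of_h hd ha).2 (er ▸ ei ▸ U1)).symm,
    ((perp_of_h hd hb).2 (er ▸ ej ▸ U2)).symm, fun hh => ?_, ?_⟩
  · have := (perp_of_h hd hc).1 hh.symm
    rw [← er, ← ek, U3] at this
    exact one_ne_zero this
  · rw [hgx₃, QuotientGroup.mk_mul, QuotientGroup.mk_mul, et₁, et₂, et₃, mul_assoc]

end CfsgLib.TypeM22
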