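import Cfsg.Agent.Lib.TypeM22.Facts
import Cfsg.Agent.Lib.TypeM22.InvolSplit
import Cfsg.Agent.Lib.TypeM22.InvolChecks

/-!
The involutions of a group of type M(22): three classes, of products of one, two or three commuting members.
-/

set_option autoImplicit false
set_option linter.unusedSectionVars false
set_option maxHeartbeats 1000000
set_option maxRecDepth 100000

namespace CfsgLib.TypeM22

open Cfsg
open CfsgLib.ThreeTransp CfsgLib.ThreeTransp.Relations
open CfsgLib.CosetEnum (prodW prodW_nil prodW_cons prodW_append powWord prodW_powWord)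
open CfsgLib.Fi22USix (transClass)

variable {G : Type*} [Group G] [Finite G] {D : Set G}

/-- a product of `m` distinct pairwise commuting members -/
def IsProd (D : Set G) (m : ℕ) (x : G) : Prop :=
  ∃ l : List G, l.Nodup ∧ l.length = m ∧ (∀ a ∈ l, a ∈ D) ∧ (∀ a ∈ l, ∀ b ∈ l, Commute a b) ∧ l.prod = x

theorem IsProd.conj {m : ℕ} {x : G} (hc : IsConjClosed D) (h : IsProd D m x) (g : G) :
    IsProd D m (g * x * g⁻¹) := by
  obtain ⟨l, h1, h2, h3, h4, rfl⟩ := h
  refine ⟨l.map (MulAut.conj g), h1.map (MulAut.conj g).injective, by simpa using h2, fun a ha => ?_,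
    fun a ha b hb => ?_, ?_⟩
  · obtain ⟨b, hb, rfl⟩ := List.mem_map.1 ha
    exact hc g b (h3 b hb)
  · obtain ⟨a', ha', rfl⟩ := List.mem_map.1 ha
    obtain ⟨b', hb', rfl⟩ := List.mem_map.1 hb
    exact (h4 a' ha' b' hb').map (MulAut.conj g)
  · exact (map_list_prod (MulAut.conj g) l).symm

theorem nine_cases : ∀ k < 10, k = 9 ∨ k < 9 := by omega

variable (X : Ctx D)
include X

/-- in a configuration, four commuting members have the product of the other three of the frame -/
theorem frame_three {x : ℕ → G} (C : Config D x) : IsProd D 3 (x 0 * (x 2 * (x 4 * x 7))) := by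
  obtain ⟨g, φ, c, N⟩ := normalise X C
  suffices h : IsProd D 3 (g * x 0 * g⁻¹ * (g * x 2 * g⁻¹ * (g * x 4 * g⁻¹ * (g * x 7 * g⁻¹)))) by
    have := h.conj X.hD.2.1 g⁻¹
    simpa [mul_assoc] using this
  obtain ⟨y, hy⟩ : ∃ y, y = fun i => g * x i * g⁻¹ := ⟨_, rfl⟩
  rw [← hy] at N
  suffices h : IsProd D 3 (y 0 * (y 2 * (y 4 * y 7))) by subst hy; exact h
  clear hy C
  obtain ⟨span, hspan⟩ := case_data N.mem
  have K := case_of hspan
  obtain ⟨ht, -⟩ := normal_t X N
  have hS := X.hD.1
  have C := N.conf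
  obtain ⟨hf1, hf2⟩ := frames_ok
  simp only [List.all_eq_true, Bool.and_eq_true, Nat.ble_eq, Nat.blt_eq] at hf2
  let y' : ℕ → G := fun k => bif Nat.beq k 9 then prodW y tWord else y k
  have hy' : ∀ k, 2 ≤ k → k < 10 → φ (cpt c k) = y' k ∧ y' k ∈ D := fun k hk hk' => by
    rcases nine_cases k hk' with rfl | h
    · refine ⟨ht, ?_⟩
      rw [show y' 9 = prodW y tWord from rfl, ← ht]
      exact (N.pts.mem (K.lt (k := 9) (by norm_num) (by norm_num))).1
    · show φ (cpt c k) = cond (Nat.beq k 9) _ _ ∧ cond (Nat.beq k 9) _ _ ∈ D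
      rw [beq_nine h, cond_false]
      exact ⟨(N.eq hk h).symm, C.mem h⟩
  have hlt : ∀ p ∈ frames.drop 3, (∀ m ∈ p.1.map (cpt c), m < 693) ∧ cpt c p.2 < 693 := fun p hp => by
    refine ⟨fun m hm => ?_, K.lt (hf2 p hp p.2 (List.mem_cons_self ..)).1 (hf2 p hp p.2 (List.mem_cons_self ..)).2⟩
    obtain ⟨k, hk, rfl⟩ := List.mem_map.1 hm
    exact K.lt (hf2 p hp k (List.mem_cons_of_mem _ hk)).1 (hf2 p hp k (List.mem_cons_of_mem _ hk)).2
  have hinv : ∀ w : List ℕ, (∀ k ∈ w, 2 ≤ k ∧ k < 10) → prodW y' w.reverse = (prodW y' w)⁻¹ := by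
    intro w
    induction w with
    | nil => intro _; simp
    | cons k w ih =>
      intro h
      rw [List.reverse_cons, prodW_append, ih fun j hj => h j (List.mem_cons_of_mem _ hj), prodW_cons, prodW_cons,
        prodW_nil, mul_one, mul_inv_rev,
        inv_eq_self hS (hy' k (h k (List.mem_cons_self ..)).1 (h k (List.mem_cons_self ..)).2).2]
  have hpt : ∀ p ∈ frames.drop 3, φ (act (p.1.map (cpt c)) (cpt c p.2)) = prodW y' (tw p.1 p.2) := fun p hp => by
    have h2 := hf2 p hp
    rw [N.pts.conj_act (hlt p hp).1 (hlt p hp).2, prodW_map,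
      prodW_congr (y := y') fun k hk => (hy' k (h2 k (List.mem_cons_of_mem _ hk)).1
        (h2 k (List.mem_cons_of_mem _ hk)).2).1,
      (hy' p.2 (h2 p.2 (List.mem_cons_self ..)).1 (h2 p.2 (List.mem_cons_self ..)).2).1, tw, prodW_append,
      prodW_cons, hinv _ (fun k hk => h2 k (List.mem_cons_of_mem _ hk)), mul_assoc]
  -- the product of the seven
  have hprod : ∀ ps : List (List ℕ × ℕ),
      prodW y' (ps.flatMap fun p => tw p.1 p.2) = (ps.map fun p => prodW y' (tw p.1 p.2)).prod := by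
    intro ps
    induction ps with
    | nil => rfl
    | cons p ps ih => rw [List.flatMap_cons, prodW_append, ih, List.map_cons, List.prod_cons]
  have h1 : y 0 * prodW y' frameW = 1 := by
    have e := C.eq_of hS (v := 0 :: expandT frameW) (by decide +kernel) z_moves.1
    rw [show powWord [0, 1, 2, 3, 4, 5, 7] 9 = powWord coxEl 9 from rfl, cox_one X C, prodW_cons,
      prodW_expand y _ rfl] at e
    exact e.symm
  rw [frameW, ← List.take_append_drop 3 frames, hf1, List.flatMap_append, prodW_append, hprod (frames.drop 3)] at h1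
  have h2 : prodW y' (([([], 2), ([], 4), ([], 7)] : List (List ℕ × ℕ)).flatMap fun p => tw p.1 p.2) =
      y 2 * (y 4 * y 7) := by
    simp [tw, y', show Nat.beq 2 9 = false from rfl, show Nat.beq 4 9 = false from rfl,
      show Nat.beq 7 9 = false from rfl]
  rw [h2, List.map_congr_left fun p hp => (hpt p hp).symm] at h1
  have hr := List.all_eq_true.1 rest_ok c N.mem
  simp only [Bool.and_eq_true, decide_eq_true_eq, List.all_eq_true] at hr
  obtain ⟨hnd, hperp⟩ := hr
  have hP : ∀ u ∈ restPts c, u < 693 := fun u hu => by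
    obtain ⟨p, hp, rfl⟩ := List.mem_map.1 hu
    exact act_lt (hlt p hp).1 (hlt p hp).2
  have e2 : ((frames.drop 3).map fun p => φ (act (p.1.map (cpt c)) (cpt c p.2))) = (restPts c).map φ := by
    rw [restPts, List.map_map]; rfl
  rw [e2] at h1
  have hmem : ∀ a ∈ (restPts c).map φ, a ∈ D := fun a ha => by
    obtain ⟨u, hu, rfl⟩ := List.mem_map.1 ha; exact (N.pts.mem (hP u hu)).1
  refine ⟨((restPts c).map φ).reverse, List.nodup_reverse.2 ?_, ?_, fun a ha => hmem a (List.mem_reverse.1 ha),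
    ?_, ?_⟩
  · exact List.Nodup.map_on (fun u hu v hv e => N.pts.inj (hP u hu) (hP v hv) e) hnd
  · have h3 : (frames.drop 3).length = 3 := by decide +kernel
    simp only [List.length_reverse, List.length_map, restPts, h3]
  · intro a ha b hb
    obtain ⟨u, hu, rfl⟩ := List.mem_map.1 (List.mem_reverse.1 ha)
    obtain ⟨v, hv, rfl⟩ := List.mem_map.1 (List.mem_reverse.1 hb)
    exact (N.pts.comm (hP u hu) (hP v hv)).2 (hperp u hu v hv)
  · have hinv2 : ∀ l : List G, (∀ a ∈ l, a ∈ D) → l.reverse.prod = l.prod⁻¹ := by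
      intro l
      induction l with
      | nil => simp
      | cons a l ih =>
        intro h
        rw [List.reverse_cons, List.prod_append, ih fun b hb => h b (List.mem_cons_of_mem _ hb), List.prod_singleton,
          List.prod_cons, mul_inv_rev, inv_eq_self hS (h a (List.mem_cons_self ..))]
    rw [hinv2 _ hmem]
    exact (eq_inv_of_mul_eq_one_left (by rw [mul_assoc]; exact h1)).symm

variable {d : G}

/-- members of a perp with a given pattern have a normal form -/
theorem normal_pts (hd : d ∈ D) {φ : ℕ → G} (P : Pts D d φ)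
    {ls : List (List Bool × List (List ℕ × List (ℕ × List ℕ)))} (hls : treeChk ls [[]] = true) {r : List ℕ}
    (hl : leaves ls [[]] = [r]) {vs : List ℕ} (hv : ∀ u ∈ vs, u < 693)
    (hf : fits (ls.map Prod.fst) [] vs = true) :
    ∃ g : G, Commute g d ∧ r.map φ = vs.map fun u => g * φ u * g⁻¹ := by
  obtain ⟨w, hw, hmem⟩ := norm (pre := []) hls (List.mem_singleton_self _) (by simpa using hv) hf
  rw [hl, List.mem_singleton, List.nil_append] at hmem
  refine ⟨prodW φ w, P.commute_prodW hw, ?_⟩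
  rw [← hmem, List.map_map]
  exact List.map_congr_left fun u hu => P.conj_act hw (hv u hu)

theorem fits_four {φ : ℕ → G} (P : Pts D d φ) {p q s u : ℕ} (hp : p < 693) (hq : q < 693) (hs : s < 693)
    (hu : u < 693) (hpq : φ p ≠ φ q) (hps : φ p ≠ φ s) (hqs : φ q ≠ φ s) (cpq : Commute (φ p) (φ q))
    (cps : Commute (φ p) (φ s)) (cqs : Commute (φ q) (φ s)) (cup : Commute (φ u) (φ p))
    (cuq : Commute (φ u) (φ q)) (cus : ¬ Commute (φ u) (φ s)) :
    fits (triTree.map Prod.fst) [] [p, q, s, u] = true := by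
  have e : triTree.map Prod.fst = [[], [false], [false, false], [false, false, true]] := by decide +kernel
  have hne : ∀ {a b : ℕ}, φ a ≠ φ b → Nat.beq a b = false := fun {a b} h =>
    Bool.eq_false_iff.2 fun e => h (congrArg φ (Nat.eq_of_beq_eq_true e))
  have hup : φ u ≠ φ p := fun e => cus (e ▸ cps)
  have huq : φ u ≠ φ q := fun e => cus (e ▸ cqs)
  have hus : φ u ≠ φ s := fun e => cus (e ▸ Commute.refl _)
  rw [e]
  simp [fits, fitB, hne hpq.symm, hne hps.symm, hne hqs.symm, hne hup, hne huq, hne hus,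
    (P.comm hq hp).1 cpq.symm, (P.comm hs hp).1 cps.symm, (P.comm hs hq).1 cqs.symm, (P.comm hu hp).1 cup,
    (P.comm hu hq).1 cuq, Bool.eq_false_iff.2 fun h => cus ((P.comm hu hs).2 h)]

/-- four commuting members, three of them independent in the perp of the other, have the product of three -/
theorem four_three (hd : d ∈ D) {a b c y : G} (ha : a ∈ nbr D d) (hb : b ∈ nbr D d) (hc : c ∈ nbr D d)
    (hy : y ∈ nbr D d) (hab : a ≠ b) (hac : a ≠ c) (hbc : b ≠ c) (cab : Commute a b) (cac : Commute a c)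
    (cbc : Commute b c) (cya : Commute y a) (cyb : Commute y b) (cyc : ¬ Commute y c) :
    IsProd D 3 (d * (a * (b * c))) := by
  obtain ⟨x, C, rfl⟩ := exists_config X hd
  obtain ⟨φ, P⟩ := X.pts hd
  obtain ⟨p, hp, rfl⟩ := P.surj ha
  obtain ⟨q, hq, rfl⟩ := P.surj hb
  obtain ⟨s, hs, rfl⟩ := P.surj hc
  obtain ⟨u, hu, rfl⟩ := P.surj hy
  have hx : ∀ k < 9, 2 ≤ k → x k ∈ nbr D (x 0) := fun k hk hk' =>
    ⟨C.mem hk, C.ne hk (by norm_num) (by omega), (C.comm (by norm_num) hk).2 (edge_one k hk hk').1⟩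
  obtain ⟨p', hp', ep⟩ := P.surj (hx 2 (by norm_num) le_rfl)
  obtain ⟨q', hq', eq⟩ := P.surj (hx 7 (by norm_num) (by norm_num))
  obtain ⟨s', hs', es⟩ := P.surj (hx 4 (by norm_num) (by norm_num))
  obtain ⟨u', hu', eu⟩ := P.surj (hx 5 (by norm_num) (by norm_num))
  have f1 := fits_four X P hp hq hs hu hab hac hbc cab cac cbc cya cyb cyc
  have f2 := fits_four X P hp' hq' hs' hu'
    (by rw [ep, eq]; exact C.ne (by norm_num) (by norm_num) (by norm_num))
    (by rw [ep, es]; exact C.ne (by norm_num) (by norm_num) (by norm_num))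
    (by rw [eq, es]; exact C.ne (by norm_num) (by norm_num) (by norm_num))
    (by rw [ep, eq]; exact (C.comm (by norm_num) (by norm_num)).2 (by decide +kernel))
    (by rw [ep, es]; exact (C.comm (by norm_num) (by norm_num)).2 (by decide +kernel))
    (by rw [eq, es]; exact (C.comm (by norm_num) (by norm_num)).2 (by decide +kernel))
    (by rw [eu, ep]; exact (C.comm (by norm_num) (by norm_num)).2 (by decide +kernel))
    (by rw [eu, eq]; exact (C.comm (by norm_num) (by norm_num)).2 (by decide +kernel))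
    (by rw [eu, es]; exact fun h => absurd ((C.comm (by norm_num) (by norm_num)).1 h) (by decide +kernel))
  obtain ⟨g₁, hg₁, e1⟩ := normal_pts X hd P triTree_ok.1 triTree_ok.2 (vs := [p, q, s, u]) (by simp [hp, hq, hs, hu]) f1
  obtain ⟨g₂, hg₂, e2⟩ := normal_pts X hd P triTree_ok.1 triTree_ok.2 (vs := [p', q', s', u'])
    (by simp [hp', hq', hs', hu']) f2
  simp only [List.map_cons, List.map_nil, List.cons.injEq, and_true, ep, eq, es, eu] at e1 e2
  obtain ⟨a1, a2, a3, -⟩ := e1
  obtain ⟨b1, b2, b3, -⟩ := e2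
  have h := frame_three X C
  rw [show x 4 * x 7 = x 7 * x 4 from (C.comm (by norm_num) (by norm_num)).2 (by decide +kernel)] at h
  have h' := (h.conj X.hD.2.1 g₂).conj X.hD.2.1 g₁⁻¹
  have e0 : g₂ * x 0 * g₂⁻¹ = g₁ * x 0 * g₁⁻¹ := by
    rw [hg₁.eq, hg₂.eq, mul_inv_cancel_right, mul_inv_cancel_right]
  have : g₁⁻¹ * (g₂ * (x 0 * (x 2 * (x 7 * x 4))) * g₂⁻¹) * g₁⁻¹⁻¹ = x 0 * (φ p * (φ q * φ s)) := by
    rw [show g₂ * (x 0 * (x 2 * (x 7 * x 4))) * g₂⁻¹ =
      g₂ * x 0 * g₂⁻¹ * (g₂ * x 2 * g₂⁻¹ * (g₂ * x 7 * g₂⁻¹ * (g₂ * x 4 * g₂⁻¹))) by group,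
      e0, ← b1, ← b2, ← b3, a1, a2, a3]
    group
  rwa [this] at h'

/-- the involutions centralising one member -/
theorem exists_center_decomp : ∃ d ∈ D, ∀ x : G, x * x = 1 → x ≠ 1 → Commute x d →
    ∃ m, 1 ≤ m ∧ m ≤ 3 ∧ IsProd D m x := by
  obtain ⟨Φ, hΦ⟩ := recognition X.hD X.hprim X.ht
  obtain ⟨-, -, -, -, hfacts⟩ := facts_of_iso Φ hΦ
  have hcl := (class_of_primitive X.hD X.hprim).1
  have hS := X.hD.1
  have hsep : Sep D := sep_of_pCore hS X.hD.2.1 (pCore_two_of_typeM22 hcl X.ht)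
  obtain ⟨-, d, hd, -, -, -, ⟨F, iF, iFt, hF, ⟨e₀⟩⟩, -⟩ := X.ht
  refine ⟨d, hd, fun x hx hx1 hxd => ?_⟩
  obtain ⟨hcc, -, -, hcen⟩ := hfacts d hd
  obtain ⟨e₁⟩ := CfsgLib.GTwoTwo.psu_equiv
    (FiniteField.ringEquivOfCardEq (K := F) (K' := CfsgLib.HePres.K4) (by rw [hF, CfsgLib.HePres.K4.card_eq])) 6 2
  let e : PerpQuot D d ≃* PSU6 := e₀.trans e₁
  let Q : ↥(perpGroup D d) →* PSU6 := e.toMonoidHom.comp (proj D d)
  have hne : ∃ x y : ↥(perpGroup D d), ¬ Commute x y := by
    by_contra! hall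
    obtain ⟨i, j, hij⟩ := tb_noncomm
    obtain ⟨u, hu⟩ := QuotientGroup.mk_surjective (e.symm (tb i))
    obtain ⟨v, hv⟩ := QuotientGroup.mk_surjective (e.symm (tb j))
    refine hij ?_
    rw [← e.apply_symm_apply (tb i), ← e.apply_symm_apply (tb j), ← hu, ← hv]
    exact ((hall u v).map (proj D d)).map e
  have hE := perpImage_isClass hcl X.hprim hsep hd hne
  have hE' : IsThreeTranspositionClass (e.toMonoidHom '' perpImage D d) :=
    class_image e.toMonoidHom e.surjective hE fun z hz e1 => by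
      have := hE.1.1 z hz
      rw [show z = 1 from e.map_eq_one_iff.1 e1, orderOf_one] at this
      exact absurd this (by norm_num)
  have hrange : e.toMonoidHom '' perpImage D d = Set.range tb := (class_eq_tvSet hE').trans tvSet_eq
  have hex : ∀ i : Fin 693, ∃ z : ↥(perpGroup D d), (z : G) ∈ nbr D d ∧ Q z = tb i := fun i => by
    obtain ⟨_, ⟨z, hz, rfl⟩, hze⟩ := (hrange ▸ Set.mem_range_self i : tb i ∈ e.toMonoidHom '' perpImage D d)
    exact ⟨z, hz, hze⟩
  choose f hf hfe using hex
  have hset : IsThreeTranspositionSet {z : ↥(perpGroup D d) | (z : G) ∈ nbr D d} :=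
    ⟨fun z hz => (restrict_set hS (perpGroup D d)).1 z hz.1,
      fun z hz w hw => (restrict_set hS (perpGroup D d)).2 z hz.1 w hw.1⟩
  have hcomm : ∀ i j, Commute (tb i) (tb j) → Commute (f i : G) (f j) := fun i j h => by
    rcases eq_or_commute_of_map_commute Q hset (hf i) (hf j) (by rw [hfe, hfe]; exact h) with h' | h'
    · rw [hfe, hfe] at h'
      rw [tb_inj h']
    · exact h'.map (perpGroup D d).subtype
  have hneq : ∀ {i j}, i ≠ j → (f i : G) ≠ f j := fun h e1 => h (tb_inj (by rw [← hfe, ← hfe, Subtype.ext e1]))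
  have hxm : x ∈ perpGroup D d := by
    rw [perpGroup, nbr, hcc]; exact Subgroup.mem_centralizer_singleton_iff.2 hxd.eq
  have hker : ∀ z : ↥(perpGroup D d), Q z = 1 → (z : G) = 1 ∨ (z : G) = d := fun z hz => by
    have hz' : z ∈ Subgroup.center _ := (QuotientGroup.eq_one_iff z).1 (e.map_eq_one_iff.1 hz)
    rw [show Subgroup.center ↥(perpGroup D d) = _ from hcen, Subgroup.mem_subgroupOf,
      Subgroup.mem_zpowers_iff] at hz'
    obtain ⟨k, hk⟩ := hz'
    rcases Int.even_or_odd' k with ⟨j, rfl | rfl⟩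
    · left; rw [← hk, zpow_mul, zpow_two, mul_self_eq_one hS hd, one_zpow]
    · right; rw [← hk, zpow_add_one, zpow_mul, zpow_two, mul_self_eq_one hS hd, one_zpow, one_mul]
  obtain ⟨y, hy⟩ : ∃ y : ↥(perpGroup D d), (y : G) = x := ⟨⟨x, hxm⟩, rfl⟩
  have hyy : Q y * Q y = 1 := by
    rw [← map_mul, show y * y = 1 from Subtype.ext (show (y : G) * y = 1 by rw [hy]; exact hx), map_one]
  have key : ∀ w : ↥(perpGroup D d), Q y = Q w → x = w ∨ x = d * w := fun w hw => by
    rcases hker (y * w⁻¹) (by rw [map_mul, map_inv, hw, mul_inv_cancel]) with h | h <;>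
      rw [Subgroup.coe_mul, Subgroup.coe_inv, mul_inv_eq_iff_eq_mul, hy] at h
    · left; rw [h, one_mul]
    · right; exact h
  rcases invol_split hyy with h | ⟨i, h⟩ | ⟨i, j, hij, cij, h⟩ | ⟨i, j, k, u, hij, hik, hjk, cij, cik, cjk, cui, cuj, cuk, h⟩
  · rcases key 1 (by rw [h, map_one]) with e1 | e1
    · exact absurd e1 (by simpa using hx1)
    · exact ⟨1, le_rfl, by norm_num, [d], by simp, rfl, by simpa using hd, by simp, by simp [e1]⟩
  · rcases key (f i) (by rw [h, hfe]) with e1 | e1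
    · exact ⟨1, le_rfl, by norm_num, [(f i : G)], by simp, rfl, by simpa using (hf i).1, by simp, by simp [e1]⟩
    · refine ⟨2, by norm_num, by norm_num, [d, (f i : G)], by simpa using (hf i).2.1.symm, rfl,
        by simp [hd, (hf i).1], ?_, by simp [e1]⟩
      simp [(hf i).2.2, (hf i).2.2.symm]
  · rcases key (f i * f j) (by rw [h, map_mul, hfe, hfe]) with e1 | e1 <;> rw [Subgroup.coe_mul] at e1
    · refine ⟨2, by norm_num, by norm_num, [(f i : G), (f j : G)], by simpa using hneq hij, rfl,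
        by simp [(hf i).1, (hf j).1], ?_, by simp [e1]⟩
      simp [hcomm i j cij, (hcomm i j cij).symm]
    · refine ⟨3, by norm_num, le_rfl, [d, (f i : G), (f j : G)], ?_, rfl,
        by simp [hd, (hf i).1, (hf j).1], ?_, by simp [e1]⟩
      · simp [(hf i).2.1.symm, (hf j).2.1.symm, hneq hij]
      · simp [hcomm i j cij, (hcomm i j cij).symm, (hf i).2.2, (hf i).2.2.symm, (hf j).2.2, (hf j).2.2.symm]
  · have ab := hcomm i j cij
    have ac := hcomm i k cik
    have bc := hcomm j k cjk
    rcases key (f i * f j * f k) (by rw [h, map_mul, map_mul, hfe, hfe, hfe]) with e1 | e1 <;>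
      rw [Subgroup.coe_mul, Subgroup.coe_mul] at e1
    · refine ⟨3, by norm_num, le_rfl, [(f i : G), (f j : G), (f k : G)], ?_, rfl,
        by simp [(hf i).1, (hf j).1, (hf k).1], ?_, by simp [e1, mul_assoc]⟩
      · simp [hneq hij, hneq hik, hneq hjk]
      · simp [ab, ab.symm, ac, ac.symm, bc, bc.symm]
    · refine ⟨3, by norm_num, le_rfl, ?_⟩
      rw [e1, mul_assoc (f i : G)]
      refine four_three X hd (hf i) (hf j) (hf k) (hf u) (hneq hij) (hneq hik) (hneq hjk) ab ac bc
        (hcomm u i cui) (hcomm u j cuj) fun hc => cuk ?_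
      rw [← hfe, ← hfe]
      exact (show Commute (f u) (f k) from Subtype.ext hc.eq).map Q

/-- every involution fixes a member -/
theorem exists_fixed {x : G} (hx : x * x = 1) : ∃ d ∈ D, Commute x d := by
  classical
  by_contra! hno
  obtain ⟨Φ, hΦ⟩ := recognition X.hD X.hprim X.ht
  obtain ⟨hsimple, hcard, hG, -, -⟩ := facts_of_iso Φ hΦ
  haveI := Fintype.ofFinite G
  haveI : Fintype D := Fintype.ofFinite D
  have hDc : Fintype.card D = 3510 := by rw [← Nat.card_eq_fintype_card, Nat.card_coe_set_eq, hcard]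
  let σ : G →* Equiv.Perm D :=
    { toFun := fun g =>
        { toFun := fun z => ⟨g * z * g⁻¹, X.hD.2.1 g z z.2⟩
          invFun := fun z => ⟨g⁻¹ * z * g⁻¹⁻¹, X.hD.2.1 g⁻¹ z z.2⟩
          left_inv := fun z => Subtype.ext (by simp [mul_assoc])
          right_inv := fun z => Subtype.ext (by simp [mul_assoc]) }
      map_one' := Equiv.ext fun z => Subtype.ext (by simp)
      map_mul' := fun a b => Equiv.ext fun z => Subtype.ext (by simp [mul_assoc]) }
  let τ : G →* ℤˣ := Equiv.Perm.sign.comp σ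
  have hτ : τ x = 1 := by
    rcases Subgroup.Normal.eq_bot_or_eq_top (inferInstance : τ.ker.Normal) with h | h
    · exfalso
      have h1 := Nat.card_le_card_of_injective τ ((MonoidHom.ker_eq_bot_iff τ).1 h)
      rw [hG, Nat.card_eq_fintype_card, Fintype.card_units_int] at h1
      norm_num at h1
    · exact MonoidHom.mem_ker.1 (h ▸ Subgroup.mem_top x)
  have hfix : ∀ z : D, σ x z ≠ z := fun z e => hno z z.2 (mul_inv_eq_iff_eq_mul.1 (congrArg Subtype.val e))
  have hsupp : (σ x).support = Finset.univ := Finset.eq_univ_iff_forall.2 fun z => Equiv.Perm.mem_support.2 (hfix z)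
  have hsq : (σ x) ^ 2 = 1 := by rw [← map_pow, pow_two, hx, map_one]
  have hct : ∀ n ∈ (σ x).cycleType, n = 2 := fun n hn => by
    have h1 : n ∣ orderOf (σ x) := Equiv.Perm.dvd_of_mem_cycleType hn
    have h2 := Equiv.Perm.two_le_of_mem_cycleType hn
    have h3 := Nat.le_of_dvd (by norm_num) (h1.trans (orderOf_dvd_of_pow_eq_one hsq))
    omega
  have hsum := Equiv.Perm.sum_cycleType (σ x)
  rw [hsupp, Finset.card_univ, hDc, Multiset.eq_replicate_card.2 hct, Multiset.sum_replicate, smul_eq_mul] at hsum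
  have hs : τ x = (-1) ^ ((σ x).cycleType.sum + Multiset.card (σ x).cycleType) :=
    Equiv.Perm.sign_of_cycleType _
  rw [Multiset.eq_replicate_card.2 hct, Multiset.sum_replicate, Multiset.card_replicate, smul_eq_mul, hsum,
    show Multiset.card (σ x).cycleType = 1755 by omega, hτ] at hs
  revert hs
  decide

/-- every involution is a product of at most three commuting members -/
theorem decomp {x : G} (hx : x * x = 1) (hx1 : x ≠ 1) : ∃ m, 1 ≤ m ∧ m ≤ 3 ∧ IsProd D m x := by
  obtain ⟨d, hd, hxd⟩ := exists_fixed X hx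
  obtain ⟨d₀, hd₀, h⟩ := exists_center_decomp X
  obtain ⟨g, hg⟩ := class_exists_conj (class_of_primitive X.hD X.hprim).1 hd hd₀
  obtain ⟨m, h1, h3, hm⟩ := h (g * x * g⁻¹) (by rw [show g * x * g⁻¹ * (g * x * g⁻¹) = g * (x * x) * g⁻¹ by group, hx, mul_one, mul_inv_cancel])
    (fun e => hx1 (by simpa using e)) (hg ▸ hxd.map (MulAut.conj g))
  refine ⟨m, h1, h3, ?_⟩
  have := hm.conj X.hD.2.1 g⁻¹
  simpa [mul_assoc] using this

/-- products of equally many commuting members are conjugate -/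
theorem conj_of_prod {m : ℕ} {x y : G} (h1 : 1 ≤ m) (h3 : m ≤ 3) (hx : IsProd D m x) (hy : IsProd D m y) :
    IsConj x y := by
  have hcl := (class_of_primitive X.hD X.hprim).1
  obtain ⟨a, ha, -⟩ := X.hprim.2.1
  obtain ⟨φ, P⟩ := X.pts ha
  obtain ⟨t1, l1, t2, l2⟩ := triTree_take
  suffices key : ∀ {z : G}, IsProd D m z → IsConj z (a * (([0, 2].take (m - 1)).map φ).prod) from
    (key hx).trans (key hy).symm
  rintro z ⟨l, hnd, hlen, hD', hc, rfl⟩
  have move : ∀ b ∈ D, ∀ w, w ∈ D → w ≠ b → Commute b w → ∀ g, g * b * g⁻¹ = a →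
      ∃ p < 693, φ p = g * w * g⁻¹ := fun b _ w hw hwb hbw g hg => by
    refine P.surj ⟨X.hD.2.1 g w hw, fun e => hwb ?_, ?_⟩
    · rw [← hg] at e; simpa using e
    · rw [← hg]; exact hbw.map (MulAut.conj g)
  match l, hlen with
  | [], h => simp at h; omega
  | [b], h =>
    obtain ⟨g, hg⟩ := class_exists_conj hcl (hD' b (by simp)) ha
    obtain rfl : m = 1 := by simpa using h.symm
    exact isConj_iff.2 ⟨g, by simpa using hg⟩
  | [b, c], h =>
    obtain rfl : m = 2 := by simpa using h.symm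
    obtain ⟨g, hg⟩ := class_exists_conj hcl (hD' b (by simp)) ha
    obtain ⟨p, hp, ep⟩ := move b (hD' b (by simp)) c (hD' c (by simp))
      (fun e => by simp [e] at hnd) (hc b (by simp) c (by simp)) g hg
    have hb1 : (triTree.take 1).map Prod.fst = [[]] := by decide +kernel
    obtain ⟨w, hw, ew⟩ := normal_pts X ha P t1 l1 (vs := [p]) (by simpa using hp) (by rw [hb1]; rfl)
    simp only [List.map_cons, List.map_nil, List.cons.injEq, and_true, ep] at ew
    refine isConj_iff.2 ⟨w * g, ?_⟩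
    calc w * g * [b, c].prod * (w * g)⁻¹ = w * (g * b * g⁻¹) * w⁻¹ * (w * (g * c * g⁻¹) * w⁻¹) := by
          simp only [List.prod_cons, List.prod_nil, mul_one]; group
      _ = a * φ 0 := by rw [hg, hw.eq, mul_inv_cancel_right, ew]
      _ = _ := by simp
  | [b, c, e], h =>
    obtain rfl : m = 3 := by simpa using h.symm
    obtain ⟨g, hg⟩ := class_exists_conj hcl (hD' b (by simp)) ha
    simp only [List.nodup_cons, List.mem_cons, List.not_mem_nil, or_false, not_or] at hnd
    obtain ⟨⟨hbc, hbe⟩, hce, -⟩ := hnd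
    obtain ⟨p, hp, ep⟩ := move b (hD' b (by simp)) c (hD' c (by simp)) (fun e => hbc e.symm)
      (hc b (by simp) c (by simp)) g hg
    obtain ⟨q, hq, eq⟩ := move b (hD' b (by simp)) e (hD' e (by simp)) (fun e => hbe e.symm)
      (hc b (by simp) e (by simp)) g hg
    have hb2 : (triTree.take 2).map Prod.fst = [[], [false]] := by decide +kernel
    have hqp : Nat.beq q p = false := Bool.eq_false_iff.2 fun e1 => hce (by
      have := congrArg φ (Nat.eq_of_beq_eq_true e1)
      rw [ep, eq] at this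
      simpa using this.symm)
    have hperp : perpB q p = true := (P.comm hq hp).1 (by
      rw [ep, eq]; exact (hc e (by simp) c (by simp)).map (MulAut.conj g))
    obtain ⟨w, hw, ew⟩ := normal_pts X ha P t2 l2 (vs := [p, q]) (by simp [hp, hq])
      (by rw [hb2]; simp [fits, fitB, hqp, hperp])
    simp only [List.map_cons, List.map_nil, List.cons.injEq, and_true, ep, eq] at ew
    refine isConj_iff.2 ⟨w * g, ?_⟩
    calc w * g * [b, c, e].prod * (w * g)⁻¹ =
          w * (g * b * g⁻¹) * w⁻¹ * (w * (g * c * g⁻¹) * w⁻¹ * (w * (g * e * g⁻¹) * w⁻¹)) := by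
          simp only [List.prod_cons, List.prod_nil, mul_one]; group
      _ = a * (φ 0 * φ 2) := by rw [hg, hw.eq, mul_inv_cancel_right, ew.1, ew.2]
      _ = _ := by simp
  | _ :: _ :: _ :: _ :: _, h => simp at h; omega

/-- a product of two or three commuting members is not one, and one, two and three differ -/
theorem prod_facts : (∀ m, 1 ≤ m → m ≤ 3 → ∃ x, IsProd D m x ∧ orderOf x = 2) ∧
    ∀ m m' x, 1 ≤ m → m ≤ 3 → 1 ≤ m' → m' ≤ 3 → IsProd D m x → IsProd D m' x → m = m' := by
  classical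
  obtain ⟨Φ, hΦ⟩ := recognition X.hD X.hprim X.ht
  have h3 := threePts_ok
  simp only [List.all_eq_true, Bool.and_eq_true, Nat.blt_eq, Bool.or_eq_true] at h3
  obtain ⟨hpts, hnd⟩ := h3
  let pp : ℕ → M23.Pt := fun z => if hz : z < 3510 then ⟨z, hz⟩ else Fi22Pres.setupA.base
  have hpp : ∀ z ∈ threePts, (pp z : ℕ) = z := fun z hz => by simp [pp, (hpts z hz).1]
  let el : ℕ → G := fun m => ((threePts.take m).map fun z => Φ (M23.tr (pp z))).prod
  have hDmem : ∀ z, Φ (M23.tr (pp z)) ∈ D := fun z => hΦ ▸ ⟨_, M23.tr_mem _, rfl⟩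
  have hIs : ∀ m, m ≤ 3 → IsProd D m (el m) := fun m hm => by
    refine ⟨(threePts.take m).map fun z => Φ (M23.tr (pp z)), ?_, ?_, fun a ha => ?_, fun a ha b hb => ?_, rfl⟩
    · refine List.Nodup.map_on (fun u hu v hv e => ?_) (hnd.sublist (List.take_sublist _ _))
      rw [← hpp u (List.mem_of_mem_take hu), ← hpp v (List.mem_of_mem_take hv),
        M23.tr_inj (Φ.injective e)]
    · simp [threePts]; omega
    · obtain ⟨z, -, rfl⟩ := List.mem_map.1 ha; exact hDmem z
    · obtain ⟨u, hu, rfl⟩ := List.mem_map.1 ha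
      obtain ⟨v, hv, rfl⟩ := List.mem_map.1 hb
      rcases (hpts u (List.mem_of_mem_take hu)).2 v (List.mem_of_mem_take hv) with e | e
      · rw [Nat.eq_of_beq_eq_true e]
      · rw [← hpp u (List.mem_of_mem_take hu), ← hpp v (List.mem_of_mem_take hv)] at e
        exact ((M23.comB_iff _ _).1 e).map Φ.toMonoidHom
  -- the number of members commuting with such a product
  let N : G → ℕ := fun x => {y | y ∈ D ∧ Commute x y}.ncard
  have hN : ∀ g x, N (g * x * g⁻¹) = N x := fun g x => by
    have e : {y | y ∈ D ∧ Commute (g * x * g⁻¹) y} = (fun y => g * y * g⁻¹) '' {y | y ∈ D ∧ Commute x y} := by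
      ext y
      constructor
      · rintro ⟨hy, hc⟩
        refine ⟨g⁻¹ * y * g⁻¹⁻¹, ⟨X.hD.2.1 _ y hy, ?_⟩, by simp [mul_assoc]⟩
        have := hc.map (MulAut.conj g⁻¹)
        simpa [mul_assoc] using this
      · rintro ⟨z, ⟨hz, hc⟩, rfl⟩
        exact ⟨X.hD.2.1 g z hz, hc.map (MulAut.conj g)⟩
    show Set.ncard _ = _
    rw [e, Set.ncard_image_of_injective _ fun u v h => by simpa using h]
  have hcount : ∀ m, N (el m) = fixCount m := fun m => by
    obtain ⟨w, hw⟩ : ∃ w, w = ((threePts.take m).map fun z => M23.tr (pp z)).prod := ⟨_, rfl⟩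
    have hel : el m = Φ w := by
      rw [hw, map_list_prod, List.map_map]; rfl
    have hrho : ∀ y : M23.Pt, (Fi22Pres.rho w y : ℕ) = (threePts.take m).foldr (fun z v => M23.actPt z v) y := by
      rw [hw]
      have : ∀ l : List ℕ, (∀ z ∈ l, z ∈ threePts) → ∀ y : M23.Pt,
          (Fi22Pres.rho (l.map fun z => M23.tr (pp z)).prod y : ℕ) = l.foldr (fun z v => M23.actPt z v) y := by
        intro l
        induction l with
        | nil => intro _ y; simp
        | cons z l ih =>
          intro hl y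
          rw [List.map_cons, List.prod_cons, map_mul, Equiv.Perm.mul_apply, M23.actPt_eq, List.foldr_cons,
            ih (fun u hu => hl u (List.mem_cons_of_mem _ hu)) y, hpp z (hl z (List.mem_cons_self ..))]
      exact this _ fun z hz => List.mem_of_mem_take hz
    have e : {y | y ∈ D ∧ Commute (el m) y} =
        (fun p : M23.Pt => Φ (M23.tr p)) '' {p | Fi22Pres.rho w p = p} := by
      ext y
      constructor
      · rintro ⟨hy, hc⟩
        rw [← hΦ] at hy
        obtain ⟨y, hy, rfl⟩ := hy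
        obtain ⟨p, rfl⟩ := M23.exists_tr hy
        refine ⟨p, M23.tr_inj ?_, rfl⟩
        have hc' : Commute w (M23.tr p) := by
          have := (hel ▸ hc).map Φ.symm.toMonoidHom
          simpa using this
        rw [← M23.tr_smul, hc'.eq, mul_inv_cancel_right]
      · rintro ⟨p, hp, rfl⟩
        refine ⟨hΦ ▸ ⟨_, M23.tr_mem p, rfl⟩, hel ▸ ?_⟩
        refine (?_ : Commute w (M23.tr p)).map Φ.toMonoidHom
        exact mul_inv_eq_iff_eq_mul.1 (by rw [M23.tr_smul, show Fi22Pres.rho w p = p from hp])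
    show Set.ncard _ = _
    rw [e, Set.ncard_image_of_injective _ fun u v h => M23.tr_inj (Φ.injective h), fixCount,
      CosetEnum.countUp_eq, ← Set.ncard_coe_finset, ← Set.ncard_image_of_injective _ Fin.val_injective]
    congr 1
    ext z
    simp only [Set.mem_image, Set.mem_ofPred_eq, Finset.coe_filter, Finset.mem_Ico, fixB, Bool.and_eq_true,
      Nat.blt_eq, Nat.beq_eq]
    constructor
    · rintro ⟨p, hp, rfl⟩
      refine ⟨⟨Nat.zero_le _, lt_of_lt_of_le p.2 (by simpa using Fi22Pres.hN)⟩, p.2, ?_⟩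
      rw [← hrho, hp]
    · rintro ⟨-, hz, hfz⟩
      exact ⟨⟨z, hz⟩, Fin.ext ((hrho ⟨z, hz⟩).trans hfz), rfl⟩
  have hdiff : ∀ m m', 1 ≤ m → m ≤ 3 → 1 ≤ m' → m' ≤ 3 → fixCount m = fixCount m' → m = m' := by
    intro m m' h1 h2 h3 h4 he
    obtain ⟨e12, e13, e23⟩ := fixCount_ne
    have k : ∀ {a b : ℕ}, Nat.beq a b = false → a ≠ b := fun h e => by
      rw [e, show Nat.beq _ _ = true from Nat.beq_refl _] at h; exact Bool.noConfusion h
    interval_cases m <;> interval_cases m' <;> first
      | rfl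
      | exact absurd he (k e12)
      | exact absurd he.symm (k e12)
      | exact absurd he (k e13)
      | exact absurd he.symm (k e13)
      | exact absurd he (k e23)
      | exact absurd he.symm (k e23)
  refine ⟨fun m h1 h2 => ⟨el m, hIs m h2, ?_⟩, fun m m' x h1 h2 h3 h4 hx hx' => ?_⟩
  · haveI : Fact (Nat.Prime 2) := ⟨Nat.prime_two⟩
    obtain ⟨l, hl1, hl2, hl3, hl4, hl5⟩ := hIs m h2
    refine orderOf_eq_prime ?_ fun e => ?_
    · rw [← hl5]
      clear hl2 hl5 hl1
      induction l with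
      | nil => simp
      | cons a l ih =>
        rw [List.prod_cons, Commute.mul_pow, pow_two, mul_self_eq_one X.hD.1 (hl3 a (List.mem_cons_self ..)),
          ih (fun b hb => hl3 b (List.mem_cons_of_mem _ hb)) (fun b hb c hc => hl4 b (List.mem_cons_of_mem _ hb) c
            (List.mem_cons_of_mem _ hc)), one_mul]
        exact Commute.list_prod_right _ _ fun b hb => hl4 a (List.mem_cons_self ..) b (List.mem_cons_of_mem _ hb)
    · have hsep : Sep D := sep_of_pCore X.hD.1 X.hD.2.1
        (pCore_two_of_typeM22 (class_of_primitive X.hD X.hprim).1 X.ht)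
      rw [← hl5] at e
      match l, hl2 with
      | [], h => simp at h; omega
      | [a], _ => exact ne_one_of_mem X.hD.1 (hl3 a (by simp)) (by simpa using e)
      | [a, b], _ =>
        simp only [List.nodup_cons, List.mem_cons, List.not_mem_nil, or_false] at hl1
        exact hl1.1 (by
          rw [← inv_eq_self X.hD.1 (hl3 b (by simp))]
          exact eq_inv_of_mul_eq_one_left (by simpa using e))
      | [a, b, c], _ =>
        simp only [List.nodup_cons, List.mem_cons, List.not_mem_nil, or_false, not_or] at hl1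
        refine mul_ne_mem X.hD.1 hsep (hl3 a (by simp)) (hl3 b (by simp)) (hl3 c (by simp)) hl1.1.1
          (hl4 a (by simp) b (by simp)) ?_
        rw [← inv_eq_self X.hD.1 (hl3 c (by simp))]
        exact eq_inv_of_mul_eq_one_left (by simpa [mul_assoc] using e)
      | _ :: _ :: _ :: _ :: _, h => simp at h; omega
  · obtain ⟨g, hg⟩ := isConj_iff.1 (conj_of_prod X h1 h2 hx (hIs m h2))
    obtain ⟨g', hg'⟩ := isConj_iff.1 (conj_of_prod X h3 h4 hx' (hIs m' h4))
    refine hdiff m m' h1 h2 h3 h4 ?_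
    rw [← hcount, ← hcount, ← hg, ← hg', hN, hN]

end CfsgLib.TypeM22
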