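import Cfsg.Agent.Lib.TypeM22.Config

/-!
Every configuration generates the group and satisfies the Coxeter relators of Fi22.
-/

set_option autoImplicit false
set_option linter.unusedSectionVars false
set_option maxHeartbeats 1000000
set_option maxRecDepth 100000

namespace CfsgLib.TypeM22

open Cfsg
open CfsgLib.ThreeTransp CfsgLib.ThreeTransp.Relations
open CfsgLib.CosetEnum (prodW prodW_nil prodW_cons prodW_append powWord prodW_powWord)

variable {G : Type*} [Group G] [Finite G] {D : Set G}

/-- the subgroup generated by the nine members -/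
def span9 (x : ℕ → G) : Subgroup G := Subgroup.closure {y | ∃ k < 9, x k = y}

theorem prodW_mem {x : ℕ → G} : ∀ {w : List ℕ}, (∀ i ∈ w, i < 9) → prodW x w ∈ span9 x
  | [], _ => by rw [prodW_nil]; exact one_mem _
  | i :: w, h => by
    rw [prodW_cons]
    exact mul_mem (Subgroup.subset_closure ⟨i, h i (List.mem_cons_self ..), rfl⟩)
      (prodW_mem fun j hj => h j (List.mem_cons_of_mem _ hj))

theorem prodW_expand (x : ℕ → G) (T : G) (hT : prodW x tWord = T) : ∀ w : List ℕ,
    prodW x (expandT w) = prodW (fun k => bif Nat.beq k 9 then T else x k) w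
  | [] => rfl
  | k :: w => by
    have ih := prodW_expand x T hT w
    rw [expandT] at ih ⊢
    rw [List.flatMap_cons, prodW_append, ih, prodW_cons]
    cases Nat.beq k 9
    · simp only [cond_false, prodW_cons, prodW_nil, mul_one]
    · simp only [cond_true, hT]

theorem beq_nine {k : ℕ} (h : k < 9) : Nat.beq k 9 = false :=
  Bool.eq_false_iff.2 fun e => by have := Nat.eq_of_beq_eq_true e; omega

variable (X : Ctx D)
include X

section
variable {x : ℕ → G} {φ : ℕ → G} {c : List ℕ × List ℕ} (N : Normal D x φ c)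
include N

theorem normal_t : φ (cpt c 9) = prodW x tWord ∧ cpt c 9 < 693 := by
  obtain ⟨span, hspan⟩ := case_data N.mem
  have K := case_of hspan
  have hS := X.hD.1
  have C := N.conf
  obtain ⟨hw1, hw2, -, -, -, -, hp5, hp8, -⟩ := words_ok
  obtain ⟨m0, m6, m2, m3, m4, m7⟩ := t_moves
  obtain ⟨a5, b5, a8, b8, hdec⟩ := t_pairs
  set T := prodW x tWord with hT
  have hTD : T ∈ D := by
    rw [hT, ← hw1, C.tw_eq hS (by decide +kernel)]
    exact X.hD.2.1 _ _ (C.mem (by norm_num))
  have h01 : ¬ Commute (x 0) (x 1) := fun h => absurd ((C.comm (by norm_num) (by norm_num)).1 h) (by decide)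
  have com : ∀ {k : ℕ} {ms : List (List ℕ)}, k < 9 →
      CfsgLib.Fi23Mult.reduces edge 9 ms (tWord ++ [k] ++ tWord.reverse ++ [k]) = true → Commute T (x k) :=
    fun {k ms} hk h => by
      have := C.comm_of hS (u := tWord) (v := [k]) hw2 (by simp [ok9, Nat.blt_eq]; exact hk) h
      simpa using this
  have n5 : ¬ Commute T (x 5) := by
    have := C.not_comm_of hS (u := tWord) (w := [5]) (i := 0) (j := 1) hp5 hw2 (by decide) h01 a5 b5
    simpa using this
  have n8 : ¬ Commute T (x 8) := by
    have := C.not_comm_of hS (u := tWord) (w := [8]) (i := 0) (j := 1) hp8 hw2 (by decide) h01 a8 b8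
    simpa using this
  obtain ⟨j, hj, hje⟩ := N.pts.surj (y := T) ⟨hTD,
    fun e => n5 (e ▸ (C.comm (by norm_num) (by norm_num)).2 (by decide)), (com (by norm_num) m0).symm⟩
  have hpt : ∀ {k}, 2 ≤ k → k < 9 → φ (basePt c.1 k) = x k := fun {k} hk hk' => by
    rw [N.eq hk hk', cpt, beq_nine hk', cond_false]
  have hlt : ∀ {k}, 2 ≤ k → k < 9 → basePt c.1 k < 693 := fun {k} hk hk' => by
    have := K.lt hk (show k < 10 by omega)
    rwa [cpt, beq_nine hk', cond_false] at this
  have hmem : j ∈ tCands c.1 c.2 := by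
    rw [tCands, List.mem_filter, List.mem_range, Bool.and_eq_true, List.all_eq_true, List.all_eq_true]
    refine ⟨hj, fun k hk => ?_, fun y hy => ?_⟩
    · have key : ∀ {k : ℕ} {b : Bool}, 2 ≤ k → k < 9 → (Commute T (x k) ↔ b = false) →
          (perpB j (basePt c.1 k) == !b) = true := fun {k b} hk hk' hb => by
        rw [beq_iff_eq, Bool.eq_iff_iff, ← N.pts.comm hj (hlt hk hk'), hje, hpt hk hk', hb, Bool.not_eq_true']
      simp only [List.mem_cons, List.not_mem_nil, or_false] at hk
      rcases hk with rfl | rfl | rfl | rfl | rfl | rfl | rfl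
      · exact key (by norm_num) (by norm_num) (iff_of_true (com (by norm_num) m2) rfl)
      · exact key (by norm_num) (by norm_num) (iff_of_true (com (by norm_num) m3) rfl)
      · exact key (by norm_num) (by norm_num) (iff_of_true (com (by norm_num) m4) rfl)
      · exact key (by norm_num) (by norm_num) (iff_of_false n5 (by decide))
      · exact key (by norm_num) (by norm_num) (iff_of_true (com (by norm_num) m6) rfl)
      · exact key (by norm_num) (by norm_num) (iff_of_true (com (by norm_num) m7) rfl)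
      · exact key (by norm_num) (by norm_num) (iff_of_false n8 (by decide))
    · rw [wits, List.mem_filter, List.contains_iff_mem] at hy
      obtain ⟨hy1, hy2⟩ := hy
      have hsU : ∀ k ∈ sU, 2 ≤ k ∧ k < 9 := by decide
      have hyS := (N.sc y).2 hy1
      have hyS' := (N.sc _).2 hy2
      have hw' : ∀ m ∈ sU.map (basePt c.1), m < 693 := fun m hm => by
        obtain ⟨k, hk, rfl⟩ := List.mem_map.1 hm; exact hlt (hsU k hk).1 (hsU k hk).2
      have e : φ y = prodW x sU * φ (act (sU.reverse.map (basePt c.1)) y) * (prodW x sU)⁻¹ := by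
        have h1 := N.pts.conj_act hw' hyS'.1
        rw [List.map_reverse, act_rev hw' hyS.1, prodW_map,
          prodW_congr (y := x) fun k hk => hpt (hsU k hk).1 (hsU k hk).2, ← List.map_reverse] at h1
        exact h1
      have c1 : Commute (φ y) (x 1) := hyS.2
      have c0 : Commute (φ y) (x 0) := (N.pts.mem hyS.1).2.2.symm
      have cs : Commute (φ y) (prodW x sU * x 1 * (prodW x sU)⁻¹) := by
        rw [e]; exact hyS'.2.map (MulAut.conj _)
      have hT' : T = x 1 * (x 0 * (prodW x sU * x 1 * (prodW x sU)⁻¹ * (x 0 * x 1))) := by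
        rw [hT, ← C.eq_of hS hw2 hdec, prodW_append, prodW_append, C.tw_eq hS (by decide)]
        simp only [prodW_cons, prodW_nil, mul_one, mul_assoc]
      refine (N.pts.comm hyS.1 hj).1 ?_
      rw [hje, hT']
      exact c1.mul_right (c0.mul_right (cs.mul_right (c0.mul_right c1)))
  rw [K.tcands, List.mem_singleton] at hmem
  exact ⟨by rw [← hmem, hje], hmem ▸ hj⟩

theorem normal_gen : span9 x = ⊤ := by
  obtain ⟨span, hspan⟩ := case_data N.mem
  have K := case_of hspan
  obtain ⟨ht, -⟩ := normal_t X N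
  have C := N.conf
  have hx : ∀ k < 9, x k ∈ span9 x := fun k hk => Subgroup.subset_closure ⟨k, hk, rfl⟩
  have hS : Closed fun i => i < 693 ∧ φ i ∈ span9 x :=
    ⟨fun h => h.1, fun hi hj => ⟨R_lt hi.1 hj.1, by
      rw [← N.pts.conj hi.1 hj.1]; exact mul_mem (mul_mem hi.2 hj.2) (inv_mem hi.2)⟩⟩
  have hall : ∀ i < 693, φ i ∈ span9 x := fun i hi => (grow_spec hS (fun v hv => by
    obtain ⟨k, hk, rfl⟩ := List.mem_map.1 (has_maskOf.1 hv)
    simp only [List.mem_cons, List.not_mem_nil, or_false] at hk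
    refine ⟨K.lt (by omega) (by omega), ?_⟩
    by_cases h9 : k = 9
    · subst h9; rw [ht]; exact prodW_mem (ok9_iff.1 words_ok.2.1)
    · rw [← N.eq (by omega) (by omega)]; exact hx k (by omega)) i (K.span_all i hi)).2
  refine perp_maximal X.hD X.hprim X.commuting (C.mem (i := 0) (by norm_num)) ?_
    (C.mem (i := 1) (by norm_num)) (hx 1 (by norm_num))
    (fun h => absurd ((C.comm (by norm_num) (by norm_num)).1 h) (by decide))
  rw [Subgroup.closure_le]
  rintro y ⟨hy, hyc⟩
  rcases eq_or_ne y (x 0) with rfl | hne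
  · exact hx 0 (by norm_num)
  · obtain ⟨i, hi, rfl⟩ := N.pts.surj (y := y) ⟨hy, hne, hyc⟩
    exact hall i hi

theorem normal_cox : prodW x (powWord coxEl 9) = 1 := by
  obtain ⟨span, hspan⟩ := case_data N.mem
  have K := case_of hspan
  obtain ⟨ht, -⟩ := normal_t X N
  have C := N.conf
  obtain ⟨-, -, -, -, -, hfr, -, -, hok⟩ := words_ok
  obtain ⟨hz, hzb, -⟩ := z_moves
  simp only [List.all_eq_true, Bool.and_eq_true, Nat.ble_eq, Nat.blt_eq] at hfr
  set z := prodW x (powWord coxEl 9) with hzdef
  obtain ⟨g, hg⟩ : ∃ g, g = prodW φ (frameW.map (cpt c)) := ⟨_, rfl⟩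
  have hw : ∀ m ∈ frameW.map (cpt c), m < 693 := fun m hm => by
    obtain ⟨k, hk, rfl⟩ := List.mem_map.1 hm; exact K.lt (hfr k hk).1 (hfr k hk).2
  have hz' : z = x 0 * g := by
    rw [hzdef, show powWord coxEl 9 = powWord [0, 1, 2, 3, 4, 5, 7] 9 from rfl,
      C.eq_of X.hD.1 (v := 0 :: expandT frameW) (by decide +kernel) hz, prodW_cons,
      prodW_expand x _ rfl, hg, prodW_map]
    congr 1
    refine prodW_congr fun k hk => ?_
    have := hfr k hk
    by_cases h9 : k = 9
    · subst h9; rw [show Nat.beq 9 9 = true from rfl, cond_true, ht]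
    · rw [beq_nine (by omega), cond_false, N.eq (by omega) (by omega)]
  have hS : Closed fun i => i < 693 ∧ Commute g (φ i) :=
    ⟨fun h => h.1, fun hi hj => ⟨R_lt hi.1 hj.1, by
      rw [← N.pts.conj hi.1 hj.1]; exact (hi.2.mul_right hj.2).mul_right hi.2.inv_right⟩⟩
  have hall : ∀ i < 693, Commute g (φ i) := fun i hi => (grow_spec hS (fun v hv => by
    obtain ⟨k, hk, rfl⟩ := List.mem_map.1 (has_maskOf.1 hv)
    simp only [List.mem_cons, List.not_mem_nil, or_false] at hk
    refine ⟨K.lt (by omega) (by omega), ?_⟩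
    have h1 := N.pts.conj_act hw (K.lt (k := k) (by omega) (by omega))
    rw [K.fix (by omega) (by omega), ← hg] at h1
    exact eq_mul_inv_iff_mul_eq.1 h1 |>.symm) i (K.span_all i hi)).2
  have hga : Commute g (x 0) := hg ▸ N.pts.commute_prodW hw
  have hzb' : Commute z (x 1) := by
    have := C.comm_of X.hD.1 (u := powWord [0, 1, 2, 3, 4, 5, 7] 9) (v := [1]) (by decide +kernel)
      (by decide) hzb
    simpa [hzdef, coxEl] using this
  have hcomm : ∀ k < 9, Commute z (x k) := fun k hk => by
    rcases Nat.lt_or_ge k 2 with h | h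
    · interval_cases k
      · rw [hz']; exact (Commute.refl _).mul_left hga
      · exact hzb'
    · rw [hz', N.eq h hk]
      exact (N.pts.mem (K.lt h (by omega))).2.2.mul_left (hall _ (K.lt h (by omega)))
  have hc : z ∈ Subgroup.center G := by
    rw [Subgroup.mem_center_iff]
    intro y
    have hle : span9 x ≤ Subgroup.centralizer {z} := (Subgroup.closure_le _).2 (by
      rintro _ ⟨k, hk, rfl⟩
      exact Subgroup.mem_centralizer_singleton_iff.2 (hcomm k hk).symm.eq)
    rw [normal_gen X N] at hle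
    exact Subgroup.mem_centralizer_singleton_iff.1 (hle (Subgroup.mem_top y))
  rw [X.ht.1] at hc
  exact Subgroup.mem_bot.1 hc

theorem normal_theta : ¬ Commute (prodW x thWord) (x 1) := by
  obtain ⟨span, hspan⟩ := case_data N.mem
  have K := case_of hspan
  have C := N.conf
  obtain ⟨-, -, hth, -, hl, -⟩ := words_ok
  simp only [List.all_eq_true, Bool.and_eq_true, Nat.ble_eq, Nat.blt_eq] at hl
  have hw : ∀ m ∈ thU.map (cpt c), m < 693 := fun m hm => by
    obtain ⟨k, hk, rfl⟩ := List.mem_map.1 hm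
    exact K.lt (hl k (List.mem_cons_of_mem _ hk)).1 (by have := hl k (List.mem_cons_of_mem _ hk); omega)
  have hG := hl thG (List.mem_cons_self ..)
  have e : φ (act (thU.map (cpt c)) (cpt c thG)) = prodW x thWord := by
    rw [N.pts.conj_act hw (K.lt hG.1 (by omega)), prodW_map, ← N.eq hG.1 hG.2, ← hth,
      C.tw_eq X.hD.1 (ok9_iff.2 fun k hk => (hl k (List.mem_cons_of_mem _ hk)).2),
      prodW_congr (y := x) fun k hk => (N.eq (hl k (List.mem_cons_of_mem _ hk)).1
        (hl k (List.mem_cons_of_mem _ hk)).2).symm]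
  intro h
  exact K.theta ((N.sc _).1 ⟨act_lt hw (K.lt hG.1 (by omega)), e ▸ h⟩)

end

variable {x : ℕ → G} (C : Config D x)
include C

theorem gen_top : span9 x = ⊤ := by
  obtain ⟨g, φ, c, N⟩ := normalise X C
  refine (Subgroup.eq_top_iff' _).2 fun y => ?_
  have h : span9 (fun i => g * x i * g⁻¹) ≤ (span9 x).map (MulAut.conj g).toMonoidHom :=
    (Subgroup.closure_le _).2 (by
      rintro _ ⟨k, hk, rfl⟩
      exact ⟨x k, Subgroup.subset_closure ⟨k, hk, rfl⟩, rfl⟩)
  rw [normal_gen X N] at h
  obtain ⟨y', hy', e⟩ := h (Subgroup.mem_top (g * y * g⁻¹))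
  have : y' = y := by simpa using e
  exact this ▸ hy'

theorem cox_one : prodW x (powWord coxEl 9) = 1 := by
  obtain ⟨g, φ, c, N⟩ := normalise X C
  have := normal_cox X N
  rw [prodW_conj, mul_inv_eq_one, mul_eq_left] at this
  exact this

theorem theta_noncomm : ¬ Commute (prodW x thWord) (x 1) := by
  obtain ⟨g, φ, c, N⟩ := normalise X C
  have := normal_theta X N
  rw [prodW_conj] at this
  exact fun h => this (h.map (MulAut.conj g))

theorem cox_two : prodW x (powWord coxEl' 9) = 1 := by
  let σ : ℕ → ℕ := fun i => [6, 5, 4, 3, 2, 1, 0, 7, 8].getD i 0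
  have hσ : ∀ i < 9, σ i < 9 := by decide
  have hinj : ∀ i < 9, ∀ j < 9, σ i = σ j → i = j := by decide
  have hedge : ∀ i < 9, ∀ j < 9, edge (σ i) (σ j) = edge i j := by decide +kernel
  have C' : Config D fun i => x (σ i) :=
    ⟨fun hi => C.mem (hσ _ hi), fun hi hj h => C.ne (hσ _ hi) (hσ _ hj) fun e => h (hinj _ hi _ hj e),
      fun {i j} hi hj => by rw [C.comm (hσ _ hi) (hσ _ hj), hedge _ hi _ hj]⟩
  have h1 := cox_one X C'
  rw [prodW_powWord, ← prodW_map] at h1
  rw [show coxEl' = [1, 2, 3, 4, 5, 6, 7] from rfl, C.eq_of X.hD.1 (by decide +kernel) z_moves.2.2,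
    prodW_powWord]
  exact h1

end CfsgLib.TypeM22
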