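import Cfsg.Agent.Lib.TypeM22.Checks
import Cfsg.Agent.Lib.TypeM22.Words

/-!
Checks for the spider relator of Fi22.
-/

set_option autoImplicit false
set_option Elab.async false
set_option maxRecDepth 100000
set_option maxHeartbeats 4000000

namespace CfsgLib.TypeM22

open CfsgLib.CosetEnum (powWord)
open CfsgLib.Fi23Mult (reduces)

/-- the spider element -/
def spider : List ℕ := [3, 2, 1, 3, 4, 5, 3, 7, 8]

/-- a cube of a product of b and theta -/
def cubeW (side : Bool) : List ℕ := powWord (bif side then 1 :: thWord else thWord ++ [1]) 3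

/-- a certificate that the spider power commutes with a generator -/
noncomputable def spChk (e : ℕ × List ℕ × ℕ × Bool × List (List ℕ)) : Bool :=
  match e with
  | (i, w, n, side, ms) => ok9 w && Nat.blt i 9 && reduces edge 9 ms
      (powWord spider 10 ++ [i] ++ (powWord spider 10).reverse ++ [i] ++ w ++ powWord (cubeW side) n ++ w.reverse)

theorem spider_moves : spiderData.map (fun e => e.1) = [1, 2, 3, 4, 5, 7, 8] ∧
    spiderData.all spChk = true := by decide +kernel

/-- the conjugator of rho -/
def rU : List ℕ := rWord.take 6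

/-- the letter of rho -/
def rG : ℕ := rWord.getD 6 0

theorem r_words : tw rU rG = rWord ∧ ok9 rWord = true ∧ ok9 rPair1 = true ∧ ok9 rPair5 = true ∧
    ok9 qPair = true ∧ ok9 thWord = true ∧ ok9 qWord = true ∧ tw [1, 2, 3, 4] 5 = qWord ∧
    (rWord.all fun k => [2, 3, 4, 7, 8].contains k) = true ∧ Nat.blt rG 9 = true ∧
    ok9 rU = true ∧ ok9 (powWord spider 10) = true := by decide +kernel

theorem r_moves : reduces edge 9 rCom8 (rWord ++ [8] ++ rWord.reverse ++ [8]) = true ∧
    reduces edge 9 rCom0 (rWord ++ [0] ++ rWord.reverse ++ [0]) = true ∧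
    reduces edge 9 rCom6 (rWord ++ [6] ++ rWord.reverse ++ [6]) = true ∧
    reduces edge 9 rCom2 (rWord ++ [2] ++ rWord.reverse ++ [2]) = true ∧
    reduces edge 9 rCom3 (rWord ++ [3] ++ rWord.reverse ++ [3]) = true ∧
    reduces edge 9 rCom4 (rWord ++ [4] ++ rWord.reverse ++ [4]) = true := by decide +kernel

theorem r_pairs : reduces edge 9 rPairA1 (tw rPair1 0 ++ rWord.reverse) = true ∧
    reduces edge 9 rPairB1 (tw rPair1 1 ++ [1]) = true ∧
    reduces edge 9 rPairA5 (tw rPair5 0 ++ rWord.reverse) = true ∧
    reduces edge 9 rPairB5 (tw rPair5 1 ++ [5]) = true ∧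
    reduces edge 9 qPairA (tw qPair 1 ++ qWord.reverse) = true ∧
    reduces edge 9 qPairB ((qPair ++ thWord ++ qPair.reverse) ++ rWord.reverse) = true := by decide +kernel

/-- orthogonality to the listed points exactly where the flags say -/
def adjPat (ps : List ℕ) (bits : List Bool) (v : ℕ) : Bool :=
  (List.zip ps bits).all fun p => perpB v p.1 == !p.2

/-- the candidates for rho over a path of six -/
def rhoCands (r : List ℕ) : List ℕ :=
  (List.range 693).filter fun v => adjPat r [false, true, false, false, false, true] v &&
    !perpB v (act [r.getD 1 0, r.getD 2 0, r.getD 3 0, r.getD 4 0] (r.getD 5 0))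

/-- the candidates for the first member given rho -/
def aCands (r : List ℕ) (ρ : ℕ) : List ℕ :=
  (List.range 693).filter fun v => adjPat (r.tail ++ [ρ]) [true, false, false, false, false, false] v

/-- the candidates for the seventh member given rho -/
def gCands (r : List ℕ) (ρ : ℕ) : List ℕ :=
  (List.range 693).filter fun v => adjPat (r.tail ++ [ρ]) [false, false, false, false, true, false] v

theorem base_ok : ((leaves pathTree [[]]).all fun r => decide (r.length = 6) &&
    (rhoCands r).all fun ρ => decide (aCands r ρ = [r.getD 0 0]) && decide ((gCands r ρ).length = 1)) = true := by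
  decide +kernel

end CfsgLib.TypeM22
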