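import Cfsg.Agent.Lib.TypeM22.Generation
import Cfsg.Agent.Lib.TypeM22.SpiderChecks

/-!
Every configuration satisfies the spider relator of Fi22.
-/

set_option autoImplicit false
set_option linter.unusedSectionVars false
set_option maxHeartbeats 1000000
set_option maxRecDepth 100000

namespace CfsgLib.TypeM22

open Cfsg
open CfsgLib.ThreeTransp CfsgLib.ThreeTransp.Relations
open CfsgLib.CosetEnum (prodW prodW_nil prodW_cons prodW_append powWord prodW_powWord)

variable {G : Type*} [Group G] [Finite G] {D : Set G}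

theorem adjPat_iff {ps : List ℕ} {bits : List Bool} {v : ℕ} :
    adjPat ps bits v = true ↔ ∀ p ∈ List.zip ps bits, perpB v p.1 = !p.2 := by
  simp [adjPat, List.all_eq_true, beq_iff_eq]

variable (X : Ctx D) {x : ℕ → G} (C : Config D x)
include X C

theorem spider_comm {i : ℕ} (hi : i ∈ [1, 2, 3, 4, 5, 7, 8]) :
    Commute (prodW x (powWord spider 10)) (x i) := by
  rw [← spider_moves.1, List.mem_map] at hi
  obtain ⟨⟨i', w, n, side, ms⟩, he, rfl⟩ := hi
  have h := List.all_eq_true.1 spider_moves.2 _ he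
  simp only [spChk, Bool.and_eq_true, Nat.blt_eq] at h
  obtain ⟨⟨hw, hi9⟩, hr⟩ := h
  have e := CfsgLib.Fi23Mult.reduces_prod (C.cox X.hD.1) hr
  have hnc := theta_noncomm X C
  have hθ : prodW x thWord ∈ D := by
    rw [← words_ok.2.2.1, C.tw_eq X.hD.1 (ok9_iff.2 fun k hk => by
      have := List.all_eq_true.1 words_ok.2.2.2.2.1 k (List.mem_cons_of_mem _ hk)
      simp only [Bool.and_eq_true, Nat.blt_eq] at this
      exact this.2)]
    exact X.hD.2.1 _ _ (C.mem (by decide +kernel))
  have hb : x 1 ∈ D := C.mem (by norm_num)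
  have hcube : prodW x (cubeW side) = 1 := by
    rw [cubeW, prodW_powWord]
    cases side
    · simp only [cond_false, prodW_append, prodW_cons, prodW_nil, mul_one]
      exact mul_pow_three_of_not_commute X.hD.1 hθ hb hnc
    · simp only [cond_true, prodW_cons]
      exact mul_pow_three_of_not_commute X.hD.1 hb hθ fun h => hnc h.symm
  simp only [prodW_append] at e
  rw [prodW_powWord x (cubeW side), hcube, one_pow, mul_one, C.rev X.hD.1 (ok9_iff.1 hw),
    C.rev X.hD.1 (ok9_iff.1 (by decide +kernel : ok9 (powWord spider 10) = true))] at e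
  simp only [prodW_cons, prodW_nil, mul_one, mul_inv_cancel_right] at e
  show Commute _ (x i')
  have e2 : prodW x (powWord spider 10) * x i' * (prodW x (powWord spider 10))⁻¹ = x i' := by
    have := eq_inv_of_mul_eq_one_left e
    rwa [inv_eq_self X.hD.1 (C.mem hi9)] at this
  exact mul_inv_eq_iff_eq_mul.1 e2

theorem spider_one : prodW x (powWord spider 10) = 1 := by
  have hS := X.hD.1
  set k := prodW x (powWord spider 10) with hk
  have hk' : ∀ i ∈ [1, 2, 3, 4, 5, 7, 8], Commute k (x i) := fun i hi => spider_comm X C hi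
  have hkx : ∀ i ∈ [1, 2, 3, 4, 5, 7, 8], k * x i * k⁻¹ = x i := fun i hi => by
    rw [(hk' i hi).eq, mul_inv_cancel_right]
  obtain ⟨φ, P⟩ := X.pts (C.mem (i := 8) (by norm_num))
  have h8 : ∀ i < 7, edge i 8 = false := by decide +kernel
  have hex : ∀ i < 7, ∃ j < 693, φ j = x i := fun i hi => P.surj ⟨C.mem (by omega),
    C.ne (by omega) (by norm_num) (by omega), ((C.comm (by omega) (by norm_num)).2 (h8 i hi)).symm⟩
  choose! f hf hfe using hex
  obtain ⟨hfit, hlen, hnd, href⟩ := sixRef_ok
  have hidx : ∀ m < 6, ∀ n < 6, edge (sixIdx.getD m 0) (sixIdx.getD n 0) = edge m n →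
      perpB (f m) (f n) = !edge m n := fun m hm n hn _ => by
    rw [Bool.eq_iff_iff, ← P.comm (hf m (by omega)) (hf n (by omega)), hfe m (by omega), hfe n (by omega),
      C.comm (by omega) (by omega), Bool.not_eq_true']
  have hpath : ∀ m < 6, ∀ n < 6, edge (sixIdx.getD m 0) (sixIdx.getD n 0) = edge m n := by decide +kernel
  have hfit' : fits pathBits [] ([0, 1, 2, 3, 4, 5].map f) = true := by
    have e : [0, 1, 2, 3, 4, 5].map f = sixRef.map fun u => f (sixRef.idxOf u) := by
      have : sixRef.map (fun u => sixRef.idxOf u) = [0, 1, 2, 3, 4, 5] := by decide +kernel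
      conv_lhs => rw [← this, List.map_map]
      rfl
    rw [e]
    refine fits_congr (pre := []) (fun u hu v hv => ?_) hfit
    rw [List.nil_append] at hu hv
    have hm := List.idxOf_lt_length_of_mem hu
    have hn := List.idxOf_lt_length_of_mem hv
    have hu' : sixRef.getD (sixRef.idxOf u) 0 = u := by
      rw [List.getD_eq_getElem _ _ hm, List.getElem_idxOf]
    have hv' : sixRef.getD (sixRef.idxOf v) 0 = v := by
      rw [List.getD_eq_getElem _ _ hn, List.getElem_idxOf]
    rw [hlen] at hm hn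
    have h := List.all_eq_true.1 (List.all_eq_true.1 href _ (List.mem_range.2 hm)) _ (List.mem_range.2 hn)
    simp only [Bool.and_eq_true, beq_iff_eq, hu', hv'] at h
    refine ⟨?_, fun e => ?_⟩
    · rw [h.2, hpath _ hm _ hn, hidx _ hm _ hn (hpath _ hm _ hn)]
    · by_contra hne
      refine C.ne (i := sixRef.idxOf u) (j := sixRef.idxOf v) (by omega) (by omega)
        (fun e' => hne (by rw [← hu', ← hv', e'])) ?_
      rw [← hfe _ (by omega), ← hfe _ (by omega), e]
  obtain ⟨w, hw, hmem⟩ := norm (pre := []) pathTree_ok (List.mem_singleton_self _)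
    (fun u hu => by
      rw [List.nil_append] at hu
      obtain ⟨m, hm, rfl⟩ := List.mem_map.1 hu
      exact hf m (by simp at hm; omega)) hfit'
  rw [List.nil_append] at hmem
  set r := List.map (act w) ([0, 1, 2, 3, 4, 5].map f) with hr
  obtain ⟨g, hg⟩ : ∃ g, g = prodW φ w := ⟨_, rfl⟩
  have Q : Pts D (x 8) fun i => g⁻¹ * φ i * g⁻¹⁻¹ := by
    have e : g⁻¹ * x 8 * g⁻¹⁻¹ = x 8 := by
      rw [hg, (P.commute_prodW hw).inv_left.eq, mul_inv_cancel_right]
    have := P.map X.hD.2.1 g⁻¹
    rwa [e] at this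
  obtain ⟨ψ, hψ⟩ : ∃ ψ, ψ = fun i => g⁻¹ * φ i * g⁻¹⁻¹ := ⟨_, rfl⟩
  rw [← hψ] at Q
  have hr' : ∀ m < 6, r.getD m 0 < 693 ∧ ψ (r.getD m 0) = x m := by
    intro m hm
    have e : r.getD m 0 = act w (f m) := by
      interval_cases m <;> rfl
    rw [e]
    refine ⟨act_lt hw (hf m (by omega)), ?_⟩
    rw [hψ]
    show g⁻¹ * φ (act w (f m)) * g⁻¹⁻¹ = x m
    rw [P.conj_act hw (hf m (by omega)), ← hg, hfe m (by omega)]
    group
  have hb := List.all_eq_true.1 base_ok r hmem
  simp only [Bool.and_eq_true, decide_eq_true_eq, List.all_eq_true] at hb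
  obtain ⟨-, hb⟩ := hb
  obtain ⟨hrw, hrok, hp1, hp5, hqp, hth, hqok, hqw, hrl, hrG, hrU, hkok⟩ := r_words
  obtain ⟨m8, m0, m6, m2, m3, m4⟩ := r_moves
  obtain ⟨a1, b1, a5, b5, qa, qb⟩ := r_pairs
  set ρ := prodW x rWord with hρ
  have hρD : ρ ∈ D := by
    rw [hρ, ← hrw, C.tw_eq hS hrU]
    exact X.hD.2.1 _ _ (C.mem (Nat.blt_eq ▸ hrG))
  have h01 : ¬ Commute (x 0) (x 1) := fun h => absurd ((C.comm (by norm_num) (by norm_num)).1 h) (by decide)
  have com : ∀ {k : ℕ} {ms : List (List ℕ)}, k < 9 →
      CfsgLib.Fi23Mult.reduces edge 9 ms (rWord ++ [k] ++ rWord.reverse ++ [k]) = true → Commute ρ (x k) :=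
    fun {k ms} hk h => by
      have := C.comm_of hS (u := rWord) (v := [k]) hrok (by simp [ok9, Nat.blt_eq]; exact hk) h
      simpa using this
  have n1 : ¬ Commute ρ (x 1) := by
    have := C.not_comm_of hS (u := rWord) (w := [1]) (i := 0) (j := 1) hp1 hrok (by decide) h01 a1 b1
    simpa using this
  have n5 : ¬ Commute ρ (x 5) := by
    have := C.not_comm_of hS (u := rWord) (w := [5]) (i := 0) (j := 1) hp5 hrok (by decide) h01 a5 b5
    simpa using this
  obtain ⟨j, hj, hje⟩ := Q.surj (y := ρ) ⟨hρD,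
    fun e => n1 (e ▸ (C.comm (by norm_num) (by norm_num)).2 (by decide)), (com (by norm_num) m8).symm⟩
  -- the element q
  have hu : ∀ m ∈ [r.getD 1 0, r.getD 2 0, r.getD 3 0, r.getD 4 0], m < 693 := by
    intro m hm
    simp only [List.mem_cons, List.not_mem_nil, or_false] at hm
    rcases hm with rfl | rfl | rfl | rfl <;> exact (hr' _ (by norm_num)).1
  have hq : ψ (act [r.getD 1 0, r.getD 2 0, r.getD 3 0, r.getD 4 0] (r.getD 5 0)) = prodW x qWord := by
    rw [Q.conj_act hu (hr' 5 (by norm_num)).1, (hr' 5 (by norm_num)).2, ← hqw,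
      C.tw_eq hS (by decide)]
    simp only [prodW_cons, prodW_nil, (hr' 1 (by norm_num)).2, (hr' 2 (by norm_num)).2,
      (hr' 3 (by norm_num)).2, (hr' 4 (by norm_num)).2]
  have hqρ : ¬ Commute (prodW x qWord) ρ := by
    have e1 := C.eq_of hS hqok qa
    have e2 := C.eq_of hS hrok qb
    rw [C.tw_eq hS hqp] at e1
    rw [prodW_append, prodW_append, C.rev hS (ok9_iff.1 hqp)] at e2
    rw [hρ, ← e1, ← e2, Pts.commute_iff_conj]
    exact fun h => theta_noncomm X C h.symm
  have hpat : ∀ {v : ℕ}, v < 693 → ∀ {y : G}, ψ v = y → ∀ {b : Bool} {m : ℕ}, m < 6 →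
      (Commute y (x m) ↔ b = false) → perpB v (r.getD m 0) = !b := fun {v} hv {y} hy {b m} hm hb => by
    rw [Bool.eq_iff_iff, ← Q.comm hv (hr' m hm).1, hy, (hr' m hm).2, hb, Bool.not_eq_true']
  have hrlist : r = [r.getD 0 0, r.getD 1 0, r.getD 2 0, r.getD 3 0, r.getD 4 0, r.getD 5 0] := rfl
  have hjmem : j ∈ rhoCands r := by
    rw [rhoCands, List.mem_filter, List.mem_range, Bool.and_eq_true, adjPat_iff]
    refine ⟨hj, ?_, ?_⟩
    · rw [hrlist]
      simp only [List.zip_cons_cons, List.zip_nil_right, List.mem_cons, List.not_mem_nil, or_false,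
        forall_eq_or_imp, forall_eq]
      exact ⟨hpat hj hje (by norm_num) (iff_of_true (com (by norm_num) m0) rfl),
        hpat hj hje (by norm_num) (iff_of_false n1 (by decide)),
        hpat hj hje (by norm_num) (iff_of_true (com (by norm_num) m2) rfl),
        hpat hj hje (by norm_num) (iff_of_true (com (by norm_num) m3) rfl),
        hpat hj hje (by norm_num) (iff_of_true (com (by norm_num) m4) rfl),
        hpat hj hje (by norm_num) (iff_of_false n5 (by decide))⟩
    · rw [Bool.not_eq_true', Bool.eq_false_iff]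
      intro h
      have := (Q.comm hj (act_lt hu (hr' 5 (by norm_num)).1)).2 h
      rw [hje, hq] at this
      exact hqρ this.symm
  obtain ⟨hA, hG⟩ := hb j hjmem
  have hkρ : Commute k ρ := by
    refine commute_prodW fun i hi => hk' i ?_
    have := List.all_eq_true.1 hrl i hi
    simp only [List.contains_iff_mem, List.mem_cons, List.not_mem_nil, or_false] at this ⊢
    omega
  -- the members fixed by the spider
  have hpatt : ∀ {i : ℕ}, i < 7 → i ∉ [1, 2, 3, 4, 5] → Commute ρ (x i) → ∀ {v : ℕ}, v < 693 →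
      (ψ v = k * x i * k⁻¹ ∨ ψ v = x i) →
      adjPat (r.tail ++ [j]) [edge i 1, edge i 2, edge i 3, edge i 4, edge i 5, false] v = true := by
    intro i hi _ hρi v hv hvi
    have hy : ∀ {m : ℕ}, m ∈ [1, 2, 3, 4, 5] → (Commute (ψ v) (x m) ↔ edge i m = false) := fun {m} hm => by
      have hm' : m ∈ [1, 2, 3, 4, 5, 7, 8] ∧ m < 9 := by
        simp only [List.mem_cons, List.not_mem_nil, or_false] at hm ⊢; omega
      rcases hvi with e | e <;> rw [e]
      · rw [← hkx m hm'.1, Pts.commute_iff_conj, C.comm (by omega) hm'.2]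
      · rw [C.comm (by omega) hm'.2]
    rw [adjPat_iff, hrlist]
    simp only [List.tail_cons, List.cons_append, List.nil_append, List.zip_cons_cons, List.zip_nil_right,
      List.mem_cons, List.not_mem_nil, or_false, forall_eq_or_imp, forall_eq]
    refine ⟨hpat hv rfl (by norm_num) (hy (by decide)), hpat hv rfl (by norm_num) (hy (by decide)),
      hpat hv rfl (by norm_num) (hy (by decide)), hpat hv rfl (by norm_num) (hy (by decide)),
      hpat hv rfl (by norm_num) (hy (by decide)), ?_⟩
    rw [Bool.not_false, ← Q.comm hv hj, hje]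
    rcases hvi with e | e <;> rw [e]
    · have := hρi.symm.map (MulAut.conj k)
      simpa [hkρ.eq] using this
    · exact hρi.symm
  have hfix : ∀ {i : ℕ}, i < 7 → Commute ρ (x i) → i ∉ [1, 2, 3, 4, 5] →
      (∀ u v : ℕ, u < 693 → v < 693 →
        adjPat (r.tail ++ [j]) [edge i 1, edge i 2, edge i 3, edge i 4, edge i 5, false] u = true →
        adjPat (r.tail ++ [j]) [edge i 1, edge i 2, edge i 3, edge i 4, edge i 5, false] v = true → u = v) →
      Commute k (x i) := by
    intro i hi hρi hni huniq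
    have hyi : x i ∈ nbr D (x 8) := ⟨C.mem (by omega),
      C.ne (by omega) (by norm_num) (by omega), ((C.comm (by omega) (by norm_num)).2 (h8 i hi)).symm⟩
    obtain ⟨u, hu, hue⟩ := Q.surj (conj_mem_nbr X.hD.2.1 (hk' 8 (by decide)) hyi)
    obtain ⟨v, hv, hve⟩ := Q.surj hyi
    have := huniq u v hu hv (hpatt hi hni hρi hu (Or.inl hue)) (hpatt hi hni hρi hv (Or.inr hve))
    rw [this, hve] at hue
    exact (mul_inv_eq_iff_eq_mul.1 hue.symm)
  have k0 : Commute k (x 0) := hfix (by norm_num) (com (by norm_num) m0) (by decide) fun u v hu hv hu' hv' => by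
    rw [show [edge 0 1, edge 0 2, edge 0 3, edge 0 4, edge 0 5, false] =
      [true, false, false, false, false, false] from rfl] at hu' hv'
    have mu : u ∈ aCands r j := List.mem_filter.2 ⟨List.mem_range.2 hu, hu'⟩
    have mv : v ∈ aCands r j := List.mem_filter.2 ⟨List.mem_range.2 hv, hv'⟩
    rw [hA, List.mem_singleton] at mu mv
    rw [mu, mv]
  have k6 : Commute k (x 6) := hfix (by norm_num) (com (by norm_num) m6) (by decide) fun u v hu hv hu' hv' => by
    rw [show [edge 6 1, edge 6 2, edge 6 3, edge 6 4, edge 6 5, false] =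
      [false, false, false, false, true, false] from rfl] at hu' hv'
    have mu : u ∈ gCands r j := List.mem_filter.2 ⟨List.mem_range.2 hu, hu'⟩
    have mv : v ∈ gCands r j := List.mem_filter.2 ⟨List.mem_range.2 hv, hv'⟩
    rw [eq_singleton (d := 0) hG, List.mem_singleton] at mu mv
    rw [mu, mv]
  have hc : k ∈ Subgroup.center G := by
    rw [Subgroup.mem_center_iff]
    intro y
    have hle : span9 x ≤ Subgroup.centralizer {k} := (Subgroup.closure_le _).2 (by
      rintro _ ⟨m, hm, rfl⟩
      refine Subgroup.mem_centralizer_singleton_iff.2 (Commute.symm ?_).eq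
      interval_cases m
      exacts [k0, hk' 1 (by decide), hk' 2 (by decide), hk' 3 (by decide), hk' 4 (by decide),
        hk' 5 (by decide), k6, hk' 7 (by decide), hk' 8 (by decide)])
    rw [gen_top X C] at hle
    exact Subgroup.mem_centralizer_singleton_iff.1 (hle (Subgroup.mem_top y))
  rw [X.ht.1] at hc
  exact Subgroup.mem_bot.1 hc

end CfsgLib.TypeM22
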