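import Cfsg.Agent.Lib.TypeM22.Checks
import Cfsg.Agent.Lib.CosetEnum.Sound

/-!
The points commuting with a member outside the perp of `a`: a closed regular set, containing a path of six.
-/

set_option autoImplicit false
set_option linter.unusedSectionVars false

namespace CfsgLib.TypeM22

open Cfsg
open CfsgLib.ThreeTransp CfsgLib.ThreeTransp.Relations
open CfsgLib.CosetEnum (prodW prodW_nil prodW_cons prodW_append)

variable {G : Type*} [Group G] [Finite G] {D : Set G}

/-- the hypotheses on the group -/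
structure Ctx (D : Set G) : Prop where
  hD : IsThreeTranspositionGroup D
  hprim : IsPrimitiveUnderConj D
  ht : IsOfTypeM22 G D

theorem Ctx.pts (X : Ctx D) {a : G} (ha : a ∈ D) : ∃ φ, Pts D a φ := exists_pts X.hD X.hprim X.ht ha

theorem Ctx.commuting (X : Ctx D) : ∃ a ∈ D, ∃ b ∈ D, a ≠ b ∧ Commute a b := by
  obtain ⟨a, ha, -⟩ := X.hprim.2.1
  obtain ⟨φ, P⟩ := X.pts ha
  have h0 := P.mem (i := 0) (by norm_num)
  exact ⟨a, ha, φ 0, h0.1, h0.2.1.symm, h0.2.2⟩

variable {a : G} {φ : ℕ → G}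

theorem Pts.commute_prodW (P : Pts D a φ) : ∀ {w : List ℕ}, (∀ m ∈ w, m < 693) → Commute (prodW φ w) a
  | [], _ => by simp [prodW_nil]
  | m :: w, hw => by
    rw [prodW_cons]
    exact (P.mem (hw m (List.mem_cons_self ..))).2.2.symm.mul_left
      (P.commute_prodW fun n hn => hw n (List.mem_cons_of_mem _ hn))

theorem Pts.conj_act (P : Pts D a φ) : ∀ {w : List ℕ} {x : ℕ}, (∀ m ∈ w, m < 693) → x < 693 →
    φ (act w x) = prodW φ w * φ x * (prodW φ w)⁻¹
  | [], x, _, _ => by simp [prodW_nil]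
  | m :: w, x, hw, hx => by
    have hw' : ∀ n ∈ w, n < 693 := fun n hn => hw n (List.mem_cons_of_mem _ hn)
    rw [act_cons, ← P.conj (hw m (List.mem_cons_self ..)) (act_lt hw' hx), P.conj_act hw' hx, prodW_cons]
    group

theorem Pts.commute_iff_conj (g x y : G) : Commute (g * x * g⁻¹) (g * y * g⁻¹) ↔ Commute x y := by
  refine ⟨fun h => ?_, fun h => h.map (MulAut.conj g)⟩
  have := h.map (MulAut.conj g⁻¹)
  simpa [mul_assoc] using this

/-- the points whose members commute with an element -/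
def Sc (φ : ℕ → G) (c : G) (i : ℕ) : Prop := i < 693 ∧ Commute (φ i) c

theorem Pts.closed (P : Pts D a φ) (c : G) : Closed (Sc φ c) where
  lt h := h.1
  mem hi hj := by
    refine ⟨R_lt hi.1 hj.1, ?_⟩
    rw [← P.conj hi.1 hj.1]
    exact (hi.2.mul_left hj.2).mul_left hi.2.inv_left

theorem Pts.sc_act (P : Pts D a φ) {c : G} {w : List ℕ} (hw : ∀ m ∈ w, m < 693) {i : ℕ} (hi : i < 693) :
    Sc φ (prodW φ w * c * (prodW φ w)⁻¹) (act w i) ↔ Sc φ c i := by
  simp only [Sc, act_lt hw hi, hi, true_and, P.conj_act hw hi, Pts.commute_iff_conj]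

theorem fits_congr {f : ℕ → ℕ} : ∀ {bs : List (List Bool)} {pre vs : List ℕ},
    (∀ x ∈ pre ++ vs, ∀ y ∈ pre ++ vs, perpB (f x) (f y) = perpB x y ∧ (f x = f y → x = y)) →
    fits bs pre vs = true → fits bs (pre.map f) (vs.map f) = true
  | [], _, [], _, _ => rfl
  | [], _, _ :: _, _, h => by simp [fits] at h
  | _ :: _, _, [], _, h => by simp [fits] at h
  | b :: bs, pre, v :: vs, hf, h => by
    simp only [fits, Bool.and_eq_true, List.map_cons] at h ⊢
    refine ⟨?_, ?_⟩
    · rw [fitB_iff] at h ⊢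
      intro p hp
      rw [List.zip_map_left, List.mem_map] at hp
      obtain ⟨⟨u, c⟩, hu, rfl⟩ := hp
      obtain ⟨h1, h2⟩ := h.1 _ hu
      have hh := hf v (by simp) u (List.mem_append_left _ (List.of_mem_zip hu).1)
      exact ⟨fun e => h1 (hh.2 e), hh.1.trans h2⟩
    · have := fits_congr (bs := bs) (pre := pre ++ [v]) (vs := vs) (by simpa using hf) h.2
      simpa using this

theorem fits_cons {i0 : ℕ} : ∀ {bs : List (List Bool)} {pre vs : List ℕ},
    (∀ v ∈ vs, v ≠ i0 ∧ perpB v i0 = true) → fits bs pre vs = true →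
    fits (bs.map (false :: ·)) (i0 :: pre) vs = true
  | [], _, [], _, _ => rfl
  | [], _, _ :: _, _, h => by simp [fits] at h
  | _ :: _, _, [], _, h => by simp [fits] at h
  | b :: bs, pre, v :: vs, hv, h => by
    simp only [fits, Bool.and_eq_true, List.map_cons] at h ⊢
    refine ⟨?_, fits_cons (fun u hu => hv u (List.mem_cons_of_mem _ hu)) h.2⟩
    rw [fitB_iff] at h ⊢
    intro p hp
    rw [List.zip_cons_cons, List.mem_cons] at hp
    rcases hp with rfl | hp
    · exact ⟨(hv v (List.mem_cons_self ..)).1, (hv v (List.mem_cons_self ..)).2⟩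
    · exact h.1 p hp

/-- a numbering with two given non-commuting members first -/
theorem Ctx.pts_pair (X : Ctx D) {b y z : G} (hb : b ∈ D) (hy : y ∈ nbr D b) (hz : z ∈ nbr D b)
    (hyz : ¬ Commute y z) : ∃ ψ, Pts D b ψ ∧ ψ 0 = y ∧ ψ 1 = z := by
  obtain ⟨ψ, P⟩ := X.pts hb
  obtain ⟨p, hp, rfl⟩ := P.surj hy
  obtain ⟨q, hq, rfl⟩ := P.surj hz
  have hqp : perpB q p = false := Bool.eq_false_iff.2 fun h => hyz ((P.comm hq hp).2 h).symm
  have hne : q ≠ p := fun e => hyz (e ▸ Commute.refl _)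
  have hfit : fits ((pathTree.take 2).map Prod.fst) [] [p, q] = true := by
    show fits [[], [true]] [] [p, q] = true
    simp [fits, fitB, hqp]
    exact Bool.eq_false_iff.2 fun e => hne (Nat.eq_of_beq_eq_true e)
  obtain ⟨w, hw, hmem⟩ := norm (pre := []) two_leaves.2 (List.mem_singleton_self _)
    (by simp [hp, hq]) hfit
  rw [two_leaves.1, List.mem_singleton] at hmem
  simp only [List.nil_append, List.map_cons, List.map_nil, List.cons.injEq, and_true] at hmem
  obtain ⟨g, hg⟩ : ∃ g, g = prodW ψ w := ⟨_, rfl⟩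
  refine ⟨fun i => g⁻¹ * ψ i * g⁻¹⁻¹, ?_, ?_, ?_⟩
  · have e : g⁻¹ * b * g⁻¹⁻¹ = b := by rw [hg, (P.commute_prodW hw).inv_left.eq, mul_inv_cancel_right]
    have := P.map X.hD.2.1 g⁻¹
    rwa [e] at this
  · show g⁻¹ * ψ 0 * g⁻¹⁻¹ = ψ p
    rw [← hmem.1, P.conj_act hw hp, ← hg]; group
  · show g⁻¹ * ψ 1 * g⁻¹⁻¹ = ψ q
    rw [← hmem.2, P.conj_act hw hq, ← hg]; group

variable (X : Ctx D) (P : Pts D a φ)
include X P

theorem sc_regular (ha : a ∈ D) {c : G} (hc : c ∈ D) (hac : ¬ Commute a c) : Regular (Sc φ c) where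
  toClosed := P.closed c
  reg := fun {i} hi => by
    classical
    have hm := P.mem hi.1
    have hca : c ∈ nbr D (φ i) := ⟨hc, fun e => hac (e ▸ hm.2.2), hi.2⟩
    obtain ⟨ψ, Q, h0, h1⟩ := X.pts_pair hm.1 (y := a) ⟨ha, hm.2.1.symm, hm.2.2.symm⟩ hca hac
    have e : φ '' {j | Sc φ c j ∧ j ≠ i ∧ perpB i j = true} = ψ '' (↑common.toFinset : Set ℕ) := by
      ext y
      constructor
      · rintro ⟨j, ⟨hj, hji, hp⟩, rfl⟩
        have hmj := P.mem hj.1
        obtain ⟨k, hk, e⟩ := Q.surj (y := φ j)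
          ⟨hmj.1, fun e => hji (P.inj hj.1 hi.1 e), (P.comm hi.1 hj.1).2 hp⟩
        refine ⟨k, ?_, e⟩
        simp only [List.coe_toFinset, Set.mem_ofPred_eq, common, List.mem_filter, List.mem_range,
          Bool.and_eq_true]
        refine ⟨hk, (Q.comm hk (by norm_num)).1 ?_, (Q.comm hk (by norm_num)).1 ?_⟩
        · rw [e, h0]; exact hmj.2.2.symm
        · rw [e, h1]; exact hj.2
      · rintro ⟨k, hk, rfl⟩
        simp only [List.coe_toFinset, Set.mem_ofPred_eq, common, List.mem_filter, List.mem_range,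
          Bool.and_eq_true] at hk
        have hmk := Q.mem hk.1
        have hka : Commute (ψ k) a := h0 ▸ (Q.comm hk.1 (by norm_num)).2 hk.2.1
        have hkc : Commute (ψ k) c := h1 ▸ (Q.comm hk.1 (by norm_num)).2 hk.2.2
        obtain ⟨j, hj, e⟩ := P.surj (y := ψ k) ⟨hmk.1, fun e => hac (e ▸ hkc), hka.symm⟩
        exact ⟨j, ⟨⟨hj, e ▸ hkc⟩, fun e' => hmk.2.1 (e ▸ congrArg φ e'),
          (P.comm hi.1 hj).1 (e ▸ hmk.2.2)⟩, e⟩
    have hl : ∀ x ∈ (↑common.toFinset : Set ℕ), x < 693 := fun x hx => by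
      simp only [List.coe_toFinset, Set.mem_ofPred_eq, common, List.mem_filter, List.mem_range] at hx
      exact hx.1
    have hn := congrArg Set.ncard e
    rw [Set.InjOn.ncard_image fun x hx y hy => P.inj hx.1.1 hy.1.1,
      Set.InjOn.ncard_image fun x hx y hy => Q.inj (hl x hx) (hl y hy), Set.ncard_coe_finset,
      List.toFinset_card_of_nodup (show common.Nodup from List.nodup_range.filter _)] at hn
    exact hn.trans common_card

theorem sc_nonempty (ha : a ∈ D) {c : G} (hc : c ∈ D) (hac : ¬ Commute a c) : ∃ i, Sc φ c i := by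
  have hconn := connected_of_primitive X.hD X.hprim X.commuting
  obtain ⟨z, hz, haz, x, hx, hxz⟩ :
      ∃ z ∈ D, ¬ Commute a z ∧ ∃ x ∈ nbr D a, Commute x z := by
    by_contra! hall
    have key : ∀ {u v : D}, (commutingGraph D).Walk u v → Commute a (u : G) → Commute a (v : G) := by
      intro u v p
      induction p with
      | nil => exact id
      | @cons u w v h p ih =>
        intro hau
        refine ih ?_
        simp only [commutingGraph, SimpleGraph.fromRel_adj] at h
        have huw : Commute (u : G) (w : G) := h.2.elim id Commute.symm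
        by_contra haw
        rcases eq_or_ne (u : G) a with e | e
        · exact haw (e ▸ huw)
        · exact hall w w.2 haw u ⟨u.2, e, hau⟩ huw
    obtain ⟨p⟩ := hconn.preconnected ⟨a, ha⟩ ⟨c, hc⟩
    exact hac (key p (Commute.refl a))
  obtain ⟨g, hg, hgc⟩ := transitive_not_commute X.hD X.hprim X.commuting ha hz hc haz hac
  have hga := (perp_closure_conj X.hD.1 X.hD.2.1 hg ha).1
  have hgx : g * x * g⁻¹ ∈ nbr D a := by
    have := (Set.ext_iff.1 (image_nbr X.hD.2.1 a g) (g * x * g⁻¹)).1 ⟨x, hx, rfl⟩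
    rwa [hga.eq, mul_inv_cancel_right] at this
  obtain ⟨i, hi, e⟩ := P.surj hgx
  exact ⟨i, hi, by rw [e, ← hgc]; exact hxz.map (MulAut.conj g)⟩

theorem sc_path (ha : a ∈ D) {c : G} (hc : c ∈ D) (hac : ¬ Commute a c) :
    ∃ p, (∀ u ∈ p, Sc φ c u) ∧ fits pathBits [] p = true := by
  classical
  obtain ⟨i0, hi0⟩ := sc_nonempty X P ha hc hac
  have hm := P.mem hi0.1
  have hca : c ∈ nbr D (φ i0) := ⟨hc, fun e => hac (e ▸ hm.2.2), hi0.2⟩
  obtain ⟨ψ, Q, h0, h1⟩ := X.pts_pair hm.1 (y := a) ⟨ha, hm.2.1.symm, hm.2.2.symm⟩ hca hac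
  have hfive : ∀ u ∈ five, u < 693 ∧ Commute (ψ u) a ∧ Commute (ψ u) c := fun u hu => by
    have h := List.all_eq_true.1 five_ok.1 u hu
    simp only [Bool.and_eq_true, Nat.blt_eq] at h
    exact ⟨h.2, h0 ▸ (Q.comm h.2 (by norm_num)).2 h.1.1, h1 ▸ (Q.comm h.2 (by norm_num)).2 h.1.2⟩
  have hex : ∀ u ∈ five, ∃ j < 693, φ j = ψ u := fun u hu =>
    P.surj ⟨(Q.mem (hfive u hu).1).1, fun e => hac (e ▸ (hfive u hu).2.2), (hfive u hu).2.1.symm⟩
  choose! f hf hfe using hex
  have hfit : fits (alevTree.map Prod.fst) [] (i0 :: five.map f) = true := by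
    have hb : alevTree.map Prod.fst =
        [] :: ((alevTree.drop 1).map fun l => l.1.drop 1).map (false :: ·) := by decide +kernel
    rw [hb]
    simp only [fits, fitB, List.zip_nil_left, List.all_nil, Bool.true_and, List.nil_append]
    refine fits_cons ?_ (fits_congr (f := f) (pre := []) ?_ five_ok.2)
    · intro v hv
      obtain ⟨u, hu, rfl⟩ := List.mem_map.1 hv
      refine ⟨fun e => (Q.mem (hfive u hu).1).2.1 (by rw [← hfe u hu, e]), ?_⟩
      rw [perpB_symm (hf u hu) hi0.1]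
      exact (P.comm hi0.1 (hf u hu)).1 (hfe u hu ▸ (Q.mem (hfive u hu).1).2.2)
    · intro x hx y hy
      rw [List.nil_append] at hx hy
      refine ⟨?_, fun e => Q.inj (hfive x hx).1 (hfive y hy).1 (by rw [← hfe x hx, ← hfe y hy, e])⟩
      rw [Bool.eq_iff_iff, ← P.comm (hf x hx) (hf y hy), ← Q.comm (hfive x hx).1 (hfive y hy).1,
        hfe x hx, hfe y hy]
  have hall : ∀ u ∈ i0 :: five.map f, Sc φ c u := fun u hu => by
    rcases List.mem_cons.1 hu with rfl | hu
    · exact hi0
    · obtain ⟨v, hv, rfl⟩ := List.mem_map.1 hu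
      exact ⟨hf v hv, hfe v hv ▸ (hfive v hv).2.2⟩
  obtain ⟨w, hw, hmem⟩ := norm (pre := []) alevTree_ok (List.mem_singleton_self _)
    (fun u hu => (hall u hu).1) hfit
  rw [alev_leaves, List.nil_append, List.mem_map] at hmem
  obtain ⟨ns, hns, hseed⟩ := hmem
  obtain ⟨g, hg⟩ : ∃ g, g = prodW φ w := ⟨_, rfl⟩
  have hga : g * a * g⁻¹ = a := by rw [hg, (P.commute_prodW hw).eq, mul_inv_cancel_right]
  have hac' : ¬ Commute a (g * c * g⁻¹) := by
    rw [← hga, Pts.commute_iff_conj]; exact hac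
  have hok : ∀ i < ns.length, nodeChk pathBits ns i = true := by
    intro i hi
    simp only [alevAll, List.mem_cons, List.not_mem_nil, or_false] at hns
    rcases hns with rfl | rfl | rfl | rfl
    exacts [List.all_eq_true.1 alev0_ok i (List.mem_range.2 hi),
      List.all_eq_true.1 alev1_ok i (List.mem_range.2 hi),
      List.all_eq_true.1 alev2_ok i (List.mem_range.2 hi),
      List.all_eq_true.1 alev3_ok i (List.mem_range.2 hi)]
  have hlen : 0 < ns.length := by
    rw [Nat.pos_iff_ne_zero]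
    intro e
    rw [List.length_eq_zero_iff.1 e] at hseed
    simp [nodeAt] at hseed
  rcases classify hok (sc_regular X P ha (X.hD.2.1 g c hc) hac') ns.length 0 hlen (by omega)
      (fun u hu => by
        rw [hseed] at hu
        obtain ⟨v, hv, rfl⟩ := List.mem_map.1 hu
        rw [hg]; exact (P.sc_act hw (hall v hv).1).2 (hall v hv)) with ⟨-, p, hp, hfp⟩ | ⟨n, hn, hlow, -⟩
  · refine ⟨p.map (act w.reverse), fun u hu => ?_, ?_⟩
    · obtain ⟨v, hv, rfl⟩ := List.mem_map.1 hu
      have hlt := act_lt (w := w.reverse) (fun m hm => hw m (List.mem_reverse.1 hm)) (hp v hv).1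
      have hh := hp v hv
      rw [hg, ← act_rev hw hh.1] at hh
      exact (P.sc_act hw hlt).1 hh
    · exact fits_map (fun m hm => hw m (List.mem_reverse.1 hm)) (pre := [])
        (fun u hu => (hp u (by simpa using hu)).1) hfp
  · have := List.all_eq_true.1 (List.all_eq_true.1 alev_no_final ns hns) n hn
    simp [hlow] at this

/-- a path of six has a normal form in which the set of points is known -/
theorem sc_normal (ha : a ∈ D) {c : G} (hc : c ∈ D) (hac : ¬ Commute a c) {p : List ℕ}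
    (hp : ∀ u ∈ p, Sc φ c u) (hfit : fits pathBits [] p = true) :
    ∃ g : G, Commute g a ∧ ∃ ns ∈ pathAll, ∃ n ∈ ns, n.low = none ∧
      p.map (fun u => g * φ u * g⁻¹) = (nodeAt ns 0).seed.map φ ∧
      ∀ i, Sc φ (g * c * g⁻¹) i ↔ i ∈ n.L := by
  obtain ⟨w, hw, hmem⟩ := norm (pre := []) pathTree_ok (List.mem_singleton_self _)
    (fun u hu => (hp u (by simpa using hu)).1) hfit
  rw [path_leaves, List.nil_append, List.mem_map] at hmem
  obtain ⟨ns, hns, hseed⟩ := hmem
  have hga : prodW φ w * a * (prodW φ w)⁻¹ = a := by rw [(P.commute_prodW hw).eq, mul_inv_cancel_right]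
  have hac' : ¬ Commute a (prodW φ w * c * (prodW φ w)⁻¹) := by
    conv => enter [1, 1]; rw [← hga]
    rw [Pts.commute_iff_conj]; exact hac
  have hlen : 0 < ns.length := by
    rw [Nat.pos_iff_ne_zero]
    intro e
    rw [List.length_eq_zero_iff.1 e] at hseed
    have : p = [] := by simpa [nodeAt] using hseed.symm
    subst this
    revert hfit
    decide +kernel
  have hok : ∀ i < ns.length, nodeChk [] ns i = true := by
    intro i hi
    simp only [pathAll, List.mem_cons, List.not_mem_nil, or_false] at hns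
    rcases hns with rfl | rfl | rfl
    exacts [List.all_eq_true.1 path0_ok i (List.mem_range.2 hi),
      List.all_eq_true.1 path1_ok i (List.mem_range.2 hi),
      List.all_eq_true.1 path2_ok i (List.mem_range.2 hi)]
  rcases classify hok (sc_regular X P ha (X.hD.2.1 _ c hc) hac') ns.length 0 hlen (by omega)
      (fun u hu => by
        rw [hseed] at hu
        obtain ⟨v, hv, rfl⟩ := List.mem_map.1 hu
        exact (P.sc_act hw (hp v hv).1).2 (hp v hv)) with ⟨h, -⟩ | ⟨n, hn, hlow, hn'⟩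
  · exact absurd rfl h
  · refine ⟨_, P.commute_prodW hw, ns, hns, n, hn, hlow, ?_, hn'⟩
    rw [hseed, List.map_map]
    exact List.map_congr_left fun u hu => (P.conj_act hw (hp u hu).1).symm

end CfsgLib.TypeM22
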