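import Cfsg.Agent.Lib.TypeM22.Data

/-!
Checks of the normal forms and of the classifications.
-/

set_option autoImplicit false
set_option Elab.async false
set_option maxRecDepth 100000
set_option maxHeartbeats 4000000

namespace CfsgLib.TypeM22

/-- the pattern of a path of six -/
def pathBits : List (List Bool) := pathTree.map Prod.fst

theorem alevTree_ok : treeChk alevTree [[]] = true := by decide +kernel

theorem pathTree_ok : treeChk pathTree [[]] = true := by decide +kernel

theorem alev_leaves : leaves alevTree [[]] = alevAll.map fun ns => (nodeAt ns 0).seed := by decide +kernel

theorem path_leaves : leaves pathTree [[]] = pathAll.map fun ns => (nodeAt ns 0).seed := by decide +kernel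

theorem alev0_ok : ((List.range alevNodes0.length).all (nodeChk pathBits alevNodes0)) = true := by decide +kernel
theorem alev1_ok : ((List.range alevNodes1.length).all (nodeChk pathBits alevNodes1)) = true := by decide +kernel
theorem alev2_ok : ((List.range alevNodes2.length).all (nodeChk pathBits alevNodes2)) = true := by decide +kernel
theorem alev3_ok : ((List.range alevNodes3.length).all (nodeChk pathBits alevNodes3)) = true := by decide +kernel
theorem path0_ok : ((List.range pathNodes0.length).all (nodeChk [] pathNodes0)) = true := by decide +kernel
theorem path1_ok : ((List.range pathNodes1.length).all (nodeChk [] pathNodes1)) = true := by decide +kernel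
theorem path2_ok : ((List.range pathNodes2.length).all (nodeChk [] pathNodes2)) = true := by decide +kernel

theorem alev_no_final : (alevAll.all fun ns => ns.all fun n => n.low.isSome) = true := by decide +kernel

/-- the common perp of the first two points -/
def common : List ℕ := (List.range 693).filter fun k => perpB k 0 && perpB k 1

theorem common_card : common.length = 45 := by decide +kernel

theorem five_ok : (five.all fun u => perpB u 0 && perpB u 1 && Nat.blt u 693) = true ∧
    fits ((alevTree.drop 1).map fun l => l.1.drop 1) [] five = true := by decide +kernel

theorem two_leaves : leaves (pathTree.take 2) [[]] = [[0, 1]] ∧ treeChk (pathTree.take 2) [[]] = true := by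
  decide +kernel

end CfsgLib.TypeM22
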