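import Cfsg.Agent.Lib.Fi22USix.Model
import Cfsg.Agent.Lib.TypeM22.Tables

/-!
The 693 points by numbers: orthogonality and the action of a transvection, computed on packed tables.
-/

set_option autoImplicit false
set_option maxRecDepth 100000

namespace CfsgLib.TypeM22

open CfsgLib.Fi22USix
open CfsgLib.HePres (K4)

/-- the code of a point -/
def pc (i : ℕ) : ℕ := (pcW >>> (12 * i)) &&& 4095

/-- a digit of a code -/
def dg (n i : ℕ) : ℕ := (n >>> (2 * i)) &&& 3

/-- a product with a conjugate -/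
def mb (a b : ℕ) : ℕ := (barW >>> (8 * a + 2 * b)) &&& 3

/-- a product -/
def mm (a b : ℕ) : ℕ := (mulW >>> (8 * a + 2 * b)) &&& 3

/-- the form on codes -/
def hN (u v : ℕ) : ℕ :=
  mb (dg u 0) (dg v 0) ^^^ mb (dg u 1) (dg v 1) ^^^ mb (dg u 2) (dg v 2) ^^^ mb (dg u 3) (dg v 3) ^^^
    mb (dg u 4) (dg v 4) ^^^ mb (dg u 5) (dg v 5)

/-- a digit of a translated vector, in place -/
def sd (h u v i : ℕ) : ℕ := (dg u i ^^^ mm h (dg v i)) <<< (2 * i)

/-- the code of `u + h v` -/
def mv (u v h : ℕ) : ℕ :=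
  sd h u v 0 ^^^ sd h u v 1 ^^^ sd h u v 2 ^^^ sd h u v 3 ^^^ sd h u v 4 ^^^ sd h u v 5

/-- orthogonality of two points -/
def perpB (i j : ℕ) : Bool := Nat.beq (hN (pc j) (pc i)) 0

/-- the image of the second point under the transvection of the first -/
def R (i j : ℕ) : ℕ := ((lkW >>> (10 * mv (pc j) (pc i) (hN (pc j) (pc i)))) &&& 1023) - 1

theorem pc_eq : ((List.range 693).all fun i =>
    Nat.beq (pc i) ((vecTab.getD (i / 32) []).getD (i % 32) 0)) = true := by decide +kernel

theorem lk_eq : ((List.range 4096).all fun n => Nat.beq ((lkW >>> (10 * n)) &&& 1023) (lk n)) = true := by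
  decide +kernel

theorem code_add : ∀ a b : K4, (a + b).code.val = a.code.val ^^^ b.code.val := by decide +kernel

theorem code_mul : ∀ a b : K4, (a * b).code.val = mm a.code.val b.code.val ∧
    (a * (b * b)).code.val = mb a.code.val b.code.val := by decide +kernel

theorem code_zero {a : K4} : a = 0 ↔ a.code.val = 0 := by revert a; decide +kernel

theorem dg_code (v : V6) (i : Fin 6) : dg (code v) i = (v i).code.val := by
  have h := congrFun (vec_code v) i
  conv_rhs => rw [← h]
  simp only [dg, vec, el, Nat.shiftRight_eq_div_pow, pow_mul]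
  exact Nat.and_two_pow_sub_one_eq_mod _ 2

theorem hN_code (x u : V6) : hN (code x) (code u) = (hval x u).code.val := by
  simp only [hval, code_add, (code_mul _ _).2, hN, ← dg_code]
  rfl

theorem xor_code : ∀ a b c d e f : Fin 4, (a.val <<< 0) ^^^ (b.val <<< 2) ^^^ (c.val <<< 4) ^^^
    (d.val <<< 6) ^^^ (e.val <<< 8) ^^^ (f.val <<< 10) =
      a.val + 4 * b.val + 16 * c.val + 64 * d.val + 256 * e.val + 1024 * f.val := by decide +kernel

theorem mv_code (x u : V6) (c : K4) : mv (code x) (code u) c.code.val = code (x + c • u) := by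
  have e : ∀ i : Fin 6, dg (code x) i ^^^ mm c.code.val (dg (code u) i) = ((x + c • u) i).code.val := fun i => by
    rw [dg_code, dg_code, ← (code_mul _ _).1, ← code_add]
    rfl
  have e0 := e 0; have e1 := e 1; have e2 := e 2; have e3 := e 3; have e4 := e 4; have e5 := e 5
  simp only [Fin.val_zero, Fin.val_one, Fin.val_two, show ((3 : Fin 6) : ℕ) = 3 from rfl,
    show ((4 : Fin 6) : ℕ) = 4 from rfl, show ((5 : Fin 6) : ℕ) = 5 from rfl] at e0 e1 e2 e3 e4 e5
  simp only [mv, sd, e0, e1, e2, e3, e4, e5]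
  exact xor_code _ _ _ _ _ _

theorem pc_pt {i : ℕ} (hi : i < 693) : pc i = code (pt i) := by
  have h := List.all_eq_true.1 pc_eq i (List.mem_range.2 hi)
  have hlt : pc i < 4096 := Nat.lt_of_le_of_lt Nat.and_le_right (by norm_num)
  rw [Nat.eq_of_beq_eq_true h] at hlt ⊢
  set n := (vecTab.getD (i / 32) []).getD (i % 32) 0
  show n = code (vec n)
  simp only [code, vec, el, Fin.val_zero, Fin.val_one, Fin.val_two, pow_zero, Nat.div_one, pow_one,
    show ((3 : Fin 6) : ℕ) = 3 from rfl, show ((4 : Fin 6) : ℕ) = 4 from rfl,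
    show ((5 : Fin 6) : ℕ) = 5 from rfl]
  omega

theorem perpB_iff {i j : ℕ} (hi : i < 693) (hj : j < 693) :
    perpB i j = true ↔ Cfsg.hermForm 6 K4 2 (pt j) (pt i) = 0 := by
  rw [perpB, pc_pt hi, pc_pt hj, hN_code, Nat.beq_eq, ← code_zero, herm_eq]

theorem R_eq {i j : ℕ} (hi : i < 693) (hj : j < 693) :
    R i j = lk (code (pt j + Cfsg.hermForm 6 K4 2 (pt j) (pt i) • pt i)) - 1 := by
  have h := List.all_eq_true.1 lk_eq _ (List.mem_range.2
    (code_lt (pt j + Cfsg.hermForm 6 K4 2 (pt j) (pt i) • pt i)))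
  rw [R, pc_pt hi, pc_pt hj, hN_code, mv_code, ← herm_eq, Nat.eq_of_beq_eq_true h]

theorem pt_line {i j : Fin 693} {c : K4} (hc : c ≠ 0) (h : pt j = c • pt i) : i = j :=
  pr_pt_inj (by show pr (pt i) = pr (pt j); rw [h, pr_smul hc])

end CfsgLib.TypeM22
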