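import Cfsg.Agent.Lib.TypeM22.Model
import Cfsg.Agent.Lib.CosetEnum.Basic

/-!
Checked derivations among the 693 points: normal forms of patterns under the transvections and the
classification of the closed regular sets that contain a given pattern.
-/

set_option autoImplicit false

namespace CfsgLib.TypeM22

open CfsgLib.CosetEnum (strict strict_eq pick pick_true pick_false band band_eq_true)

/-! ### invariance -/

theorem R_inv {m p : ℕ} (hm : m < 693) (hp : p < 693) : R m (R m p) = p := by
  have h1 := tb_conj ⟨m, hm⟩ ⟨p, hp⟩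
  have h2 := tb_conj ⟨m, hm⟩ ⟨R m p, R_lt hm hp⟩
  rw [← h1] at h2
  have e : tb ⟨m, hm⟩ * tb ⟨m, hm⟩ = 1 := by
    rw [tb, ← QuotientGroup.mk_mul, (tau_spec _).sq, QuotientGroup.mk_one]
  rw [show tb ⟨m, hm⟩ * (tb ⟨m, hm⟩ * tb ⟨p, hp⟩ * (tb ⟨m, hm⟩)⁻¹) * (tb ⟨m, hm⟩)⁻¹ =
    tb ⟨m, hm⟩ * tb ⟨m, hm⟩ * tb ⟨p, hp⟩ * (tb ⟨m, hm⟩ * tb ⟨m, hm⟩)⁻¹ by group, e, one_mul, inv_one,
    mul_one] at h2
  exact (congrArg Fin.val (tb_inj h2)).symm

theorem perpB_R {m i j : ℕ} (hm : m < 693) (hi : i < 693) (hj : j < 693) :
    perpB (R m i) (R m j) = perpB i j := by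
  rw [Bool.eq_iff_iff, ← tb_comm ⟨R m i, R_lt hm hi⟩ ⟨R m j, R_lt hm hj⟩, ← tb_comm ⟨i, hi⟩ ⟨j, hj⟩,
    ← tb_conj ⟨m, hm⟩ ⟨i, hi⟩, ← tb_conj ⟨m, hm⟩ ⟨j, hj⟩]
  refine ⟨fun h => ?_, fun h => h.map (MulAut.conj (tb ⟨m, hm⟩))⟩
  have h1 := h.map (MulAut.conj (tb ⟨m, hm⟩)⁻¹)
  simpa [mul_assoc] using h1

theorem perpB_self {i : ℕ} (hi : i < 693) : perpB i i = true :=
  (tb_comm ⟨i, hi⟩ ⟨i, hi⟩).1 (Commute.refl _)

theorem perpB_symm {i j : ℕ} (hi : i < 693) (hj : j < 693) : perpB i j = perpB j i := by
  rw [Bool.eq_iff_iff, ← tb_comm ⟨i, hi⟩ ⟨j, hj⟩, ← tb_comm ⟨j, hj⟩ ⟨i, hi⟩]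
  exact Commute.symm_iff

/-- the action of a word, the last letter first -/
def act (w : List ℕ) (x : ℕ) : ℕ := w.foldr (fun m y => R m y) x

/-- letters in range -/
def okP (w : List ℕ) : Bool := w.all fun m => Nat.blt m 693

theorem okP_iff {w : List ℕ} : okP w = true ↔ ∀ m ∈ w, m < 693 := by
  simp [okP, List.all_eq_true, Nat.blt_eq]

@[simp] theorem act_nil (x : ℕ) : act [] x = x := rfl

@[simp] theorem act_cons (m : ℕ) (w : List ℕ) (x : ℕ) : act (m :: w) x = R m (act w x) := rfl

theorem act_append (u w : List ℕ) (x : ℕ) : act (u ++ w) x = act u (act w x) := by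
  simp [act, List.foldr_append]

theorem act_lt : ∀ {w : List ℕ} {x : ℕ}, (∀ m ∈ w, m < 693) → x < 693 → act w x < 693
  | [], _, _, hx => hx
  | _ :: _, _, hw, hx => R_lt (hw _ (List.mem_cons_self ..))
      (act_lt (fun m hm => hw m (List.mem_cons_of_mem _ hm)) hx)

theorem act_perp : ∀ {w : List ℕ} {x y : ℕ}, (∀ m ∈ w, m < 693) → x < 693 → y < 693 →
    perpB (act w x) (act w y) = perpB x y
  | [], _, _, _, _, _ => rfl
  | m :: w, x, y, hw, hx, hy => by
    have hw' : ∀ m ∈ w, m < 693 := fun m hm => hw m (List.mem_cons_of_mem _ hm)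
    rw [act_cons, act_cons, perpB_R (hw _ (List.mem_cons_self ..)) (act_lt hw' hx) (act_lt hw' hy),
      act_perp hw' hx hy]

theorem act_rev : ∀ {w : List ℕ} {x : ℕ}, (∀ m ∈ w, m < 693) → x < 693 → act w (act w.reverse x) = x
  | [], _, _, _ => rfl
  | m :: w, x, hw, hx => by
    have hm := hw _ (List.mem_cons_self ..)
    rw [List.reverse_cons, act_append, act_cons, act_cons, act_nil,
      act_rev (fun n hn => hw n (List.mem_cons_of_mem _ hn)) (R_lt hm hx), R_inv hm hx]

theorem act_rev' {w : List ℕ} {x : ℕ} (hw : ∀ m ∈ w, m < 693) (hx : x < 693) :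
    act w.reverse (act w x) = x := by
  have := act_rev (w := w.reverse) (fun m hm => hw m (List.mem_reverse.1 hm)) hx
  rwa [List.reverse_reverse] at this

theorem act_inj {w : List ℕ} {x y : ℕ} (hw : ∀ m ∈ w, m < 693) (hx : x < 693) (hy : y < 693)
    (e : act w x = act w y) : x = y := by
  rw [← act_rev' hw hx, e, act_rev' hw hy]

/-! ### masks and derivations -/

/-- membership in a mask -/
def has (M i : ℕ) : Bool := Nat.beq ((M >>> i) &&& 1) 1

theorem has_iff {M i : ℕ} : has M i = true ↔ M.testBit i = true := by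
  rw [has, Nat.beq_eq, Nat.testBit_eq_decide_div_mod_eq, decide_eq_true_eq, Nat.shiftRight_eq_div_pow,
    Nat.and_one_is_mod]

theorem has_add {M x i : ℕ} : has (M ||| (1 <<< x)) i = true ↔ has M i = true ∨ i = x := by
  rw [has_iff, has_iff, Nat.testBit_or, Nat.one_shiftLeft, Nat.testBit_two_pow, Bool.or_eq_true,
    decide_eq_true_eq]
  exact or_congr Iff.rfl eq_comm

theorem has_zero {i : ℕ} : has 0 i = false := by simp [has]; rfl

theorem has_one {x i : ℕ} : has (1 <<< x) i = true ↔ i = x := by
  simpa [has_zero] using has_add (M := 0) (x := x) (i := i)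

/-- the mask of a list -/
noncomputable def maskOf (l : List ℕ) : ℕ :=
  List.rec 0 (fun x _ ih => strict ih fun m => m ||| (1 <<< x)) l

theorem has_maskOf : ∀ {l : List ℕ} {i : ℕ}, has (maskOf l) i = true ↔ i ∈ l
  | [], i => by simp [maskOf, has_zero]
  | x :: l, i => by
    show has (strict (maskOf l) fun m => m ||| (1 <<< x)) i = true ↔ _
    rw [strict_eq, has_add, has_maskOf, List.mem_cons, or_comm]

/-- new members of a closed set, from coded pairs -/
noncomputable def grow (l : List ℕ) : ℕ → ℕ :=
  List.rec (fun M => M) (fun e _ ih M => strict M fun M =>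
    ih (pick (band (has M (e >>> 10)) (has M (e &&& 1023))) (M ||| (1 <<< R (e >>> 10) (e &&& 1023))) M)) l

/-- an orbit, from coded pairs -/
noncomputable def orb (Lm : ℕ) (l : List ℕ) : ℕ → ℕ :=
  List.rec (fun O => O) (fun e _ ih O => strict O fun O =>
    ih (pick (band (has Lm (e >>> 10)) (has O (e &&& 1023))) (O ||| (1 <<< R (e >>> 10) (e &&& 1023))) O)) l

/-- a closed set of points in which each member has 45 others orthogonal to it -/
structure Closed (S : ℕ → Prop) : Prop where
  lt : ∀ {i}, S i → i < 693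
  mem : ∀ {i j}, S i → S j → S (R i j)

theorem grow_spec {S : ℕ → Prop} (hS : Closed S) : ∀ {l : List ℕ} {M : ℕ},
    (∀ i, has M i = true → S i) → ∀ i, has (grow l M) i = true → S i
  | [], _, h => h
  | e :: l, M, h => by
    show ∀ i, has (strict M fun M => grow l
      (pick (band (has M (e >>> 10)) (has M (e &&& 1023))) (M ||| (1 <<< R (e >>> 10) (e &&& 1023))) M)) i
        = true → S i
    rw [strict_eq]
    refine grow_spec hS fun i hi => ?_
    cases hc : band (has M (e >>> 10)) (has M (e &&& 1023))
    · rw [hc, pick_false] at hi; exact h i hi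
    · rw [hc, pick_true, has_add] at hi
      rw [band_eq_true] at hc
      rcases hi with hi | rfl
      · exact h i hi
      · exact hS.mem (h _ hc.1) (h _ hc.2)

theorem orb_spec {S : ℕ → Prop} (hS : Closed S) {Lm x : ℕ} (hL : ∀ i, has Lm i = true → S i) :
    ∀ {l : List ℕ} {O : ℕ}, (∀ i, has O i = true → i < 693 ∧ (S i → S x)) →
      ∀ i, has (orb Lm l O) i = true → i < 693 ∧ (S i → S x)
  | [], _, h => h
  | e :: l, O, h => by
    show ∀ i, has (strict O fun O => orb Lm l
      (pick (band (has Lm (e >>> 10)) (has O (e &&& 1023))) (O ||| (1 <<< R (e >>> 10) (e &&& 1023))) O)) i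
        = true → i < 693 ∧ (S i → S x)
    rw [strict_eq]
    refine orb_spec hS hL fun i hi => ?_
    cases hc : band (has Lm (e >>> 10)) (has O (e &&& 1023))
    · rw [hc, pick_false] at hi; exact h i hi
    · rw [hc, pick_true, has_add] at hi
      rw [band_eq_true] at hc
      rcases hi with hi | rfl
      · exact h i hi
      · have hm := hS.lt (hL _ hc.1)
        refine ⟨R_lt hm (h _ hc.2).1, fun hs => (h _ hc.2).2 ?_⟩
        have h2 := hS.mem (hL _ hc.1) hs
        rwa [R_inv hm (h _ hc.2).1] at h2

/-- the numbers of a packed list of coded pairs -/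
def unpack (n P : ℕ) : List ℕ := (List.range n).map fun k => (P >>> (20 * k)) &&& 1048575

/-- the letters of a packed word -/
def wd : ℕ → ℕ → List ℕ
  | 0, _ => []
  | f + 1, P => bif Nat.beq P 0 then [] else ((P &&& 1023) - 1) :: wd f (P >>> 10)

/-! ### patterns -/

/-- a point with given adjacencies to some points and different from them -/
def fitB (bits : List Bool) (pre : List ℕ) (v : ℕ) : Bool :=
  (List.zip pre bits).all fun p => !Nat.beq v p.1 && (perpB v p.1 == !p.2)

/-- a sequence with a given pattern of adjacencies -/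
def fits : List (List Bool) → List ℕ → List ℕ → Bool
  | [], _, [] => true
  | b :: bs, pre, v :: vs => fitB b pre v && fits bs (pre ++ [v]) vs
  | _, _, _ => false

theorem fitB_iff {bits : List Bool} {pre : List ℕ} {v : ℕ} :
    fitB bits pre v = true ↔ ∀ p ∈ List.zip pre bits, v ≠ p.1 ∧ perpB v p.1 = !p.2 := by
  simp [fitB, List.all_eq_true, ← Nat.beq_eq, Bool.and_eq_true, beq_iff_eq]

theorem fitB_map {bits : List Bool} {pre : List ℕ} {v : ℕ} {w : List ℕ} (hw : ∀ m ∈ w, m < 693)
    (hp : ∀ u ∈ pre, u < 693) (hv : v < 693) (h : fitB bits pre v = true) :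
    fitB bits (pre.map (act w)) (act w v) = true := by
  rw [fitB_iff] at h ⊢
  intro p hp'
  rw [List.zip_map_left, List.mem_map] at hp'
  obtain ⟨⟨u, b⟩, hub, rfl⟩ := hp'
  obtain ⟨h1, h2⟩ := h _ hub
  have hu := hp u (List.of_mem_zip hub).1
  exact ⟨fun e => h1 (act_inj hw hv hu e), (act_perp hw hv hu).trans h2⟩

theorem fits_map {w : List ℕ} (hw : ∀ m ∈ w, m < 693) : ∀ {bs : List (List Bool)} {pre vs : List ℕ},
    (∀ u ∈ pre ++ vs, u < 693) → fits bs pre vs = true → fits bs (pre.map (act w)) (vs.map (act w)) = true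
  | [], _, [], _, _ => rfl
  | [], _, _ :: _, _, h => by simp [fits] at h
  | _ :: _, _, [], _, h => by simp [fits] at h
  | b :: bs, pre, v :: vs, hr, h => by
    simp only [fits, Bool.and_eq_true, List.map_cons] at h ⊢
    refine ⟨fitB_map hw (fun u hu => hr u (List.mem_append_left _ hu)) (hr v (by simp)) h.1, ?_⟩
    have := fits_map hw (bs := bs) (pre := pre ++ [v]) (vs := vs) (by simpa using hr) h.2
    simpa using this

/-- the mask of the points sent to a representative -/
noncomputable def orbMask (x : ℕ) (ws : List ℕ) : ℕ :=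
  maskOf (ws.map fun P => act (wd 24 P).reverse x)

/-- one step of a normal form -/
noncomputable def stepChk (bits : List Bool) (e : List ℕ × List (ℕ × List ℕ)) : Bool :=
  e.2.all (fun o => Nat.blt o.1 693 && o.2.all fun P => okP (wd 24 P) && e.1.all fun u =>
    Nat.beq (act (wd 24 P) u) u) &&
  strict (e.2.foldr (fun o M => orbMask o.1 o.2 ||| M) 0) fun M =>
    (List.range 693).all fun v => !fitB bits e.1 v || has M v

/-- the next frontier -/
def nextFr (es : List (List ℕ × List (ℕ × List ℕ))) : List (List ℕ) :=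
  es.flatMap fun e => e.2.map fun o => e.1 ++ [o.1]

/-- the last frontier -/
def leaves : List (List Bool × List (List ℕ × List (ℕ × List ℕ))) → List (List ℕ) → List (List ℕ)
  | [], fr => fr
  | (_, es) :: ls, _ => leaves ls (nextFr es)

/-- all steps of a normal form -/
noncomputable def treeChk : List (List Bool × List (List ℕ × List (ℕ × List ℕ))) → List (List ℕ) → Bool
  | [], _ => true
  | (b, es) :: ls, fr => decide (es.map Prod.fst = fr) && es.all (stepChk b) && treeChk ls (nextFr es)

theorem norm : ∀ {ls : List (List Bool × List (List ℕ × List (ℕ × List ℕ)))} {fr : List (List ℕ)}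
    {pre vs : List ℕ}, treeChk ls fr = true → pre ∈ fr → (∀ u ∈ pre ++ vs, u < 693) →
    fits (ls.map Prod.fst) pre vs = true →
      ∃ w : List ℕ, (∀ m ∈ w, m < 693) ∧ (pre ++ vs).map (act w) ∈ leaves ls fr
  | [], fr, pre, [], _, hp, _, _ => ⟨[], by simp, by simpa [leaves, show act [] = id from rfl] using hp⟩
  | [], _, _, _ :: _, _, _, _, h => by simp [fits] at h
  | _ :: _, _, _, [], _, _, _, h => by simp [fits] at h
  | (b, es) :: ls, fr, pre, v :: vs, hc, hp, hr, h => by
    simp only [treeChk, Bool.and_eq_true, decide_eq_true_eq, List.all_eq_true] at hc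
    obtain ⟨⟨hfr, hes⟩, hrest⟩ := hc
    subst hfr
    obtain ⟨e, he, rfl⟩ := List.mem_map.1 hp
    simp only [fits, List.map_cons, Bool.and_eq_true] at h
    have hse := hes e he
    simp only [stepChk, Bool.and_eq_true, strict_eq, List.all_eq_true, Nat.blt_eq, Nat.beq_eq] at hse
    have hv : v < 693 := hr v (by simp)
    have hM := hse.2 v (List.mem_range.2 hv)
    rw [h.1, Bool.not_true, Bool.false_or] at hM
    have key : ∀ (os : List (ℕ × List ℕ)), has (os.foldr (fun o M => orbMask o.1 o.2 ||| M) 0) v = true →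
        ∃ o ∈ os, has (orbMask o.1 o.2) v = true := by
      intro os
      induction os with
      | nil => simp [has_zero]
      | cons o os ih =>
        intro hh
        rw [List.foldr_cons, has_iff, Nat.testBit_or, Bool.or_eq_true, ← has_iff, ← has_iff] at hh
        rcases hh with hh | hh
        · exact ⟨o, List.mem_cons_self .., hh⟩
        · obtain ⟨o', h1, h2⟩ := ih hh
          exact ⟨o', List.mem_cons_of_mem _ h1, h2⟩
    obtain ⟨⟨x, ws⟩, ho, hov⟩ := key _ hM
    rw [orbMask, has_maskOf, List.mem_map] at hov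
    obtain ⟨P, hP, rfl⟩ := hov
    obtain ⟨hx, hws⟩ := hse.1 _ ho
    obtain ⟨hw, hfix⟩ := hws P hP
    rw [okP_iff] at hw
    have e1 : act (wd 24 P) (act (wd 24 P).reverse x) = x := act_rev hw hx
    have e2 : e.1.map (act (wd 24 P)) = e.1 := (List.map_congr_left hfix).trans (List.map_id' _)
    have h3 := fits_map hw (bs := ls.map Prod.fst) (pre := e.1 ++ [act (wd 24 P).reverse x]) (vs := vs)
      (by simpa using hr) h.2
    rw [List.map_append, e2, List.map_cons, List.map_nil, e1] at h3
    obtain ⟨w, hw', hmem⟩ := norm (pre := e.1 ++ [x]) hrest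
      (List.mem_flatMap.2 ⟨e, he, List.mem_map.2 ⟨_, ho, rfl⟩⟩)
      (fun u hu => by
        simp only [List.append_assoc, List.mem_append, List.mem_map, List.mem_cons, List.not_mem_nil,
          or_false] at hu
        rcases hu with hu | rfl | ⟨u', hu', rfl⟩
        · exact hr u (List.mem_append_left _ hu)
        · exact hx
        · exact act_lt hw (hr u' (by simp [hu'])))
      h3
    refine ⟨w ++ wd 24 P, fun m hm => (List.mem_append.1 hm).elim (hw' m) (hw m), ?_⟩
    have : (e.1 ++ act (wd 24 P).reverse x :: vs).map (act (w ++ wd 24 P)) =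
        ((e.1 ++ [x]) ++ vs.map (act (wd 24 P))).map (act w) := by
      have hfun : act (w ++ wd 24 P) = act w ∘ act (wd 24 P) := funext fun u => act_append _ _ u
      rw [hfun, ← List.map_map, List.map_append, e2, List.map_cons, e1]
      simp
    rw [this]
    exact hmem

/-! ### classification -/

/-- a closed set in which each member is orthogonal to 45 others -/
structure Regular (S : ℕ → Prop) : Prop extends Closed S where
  reg : ∀ {i}, S i → {j | S j ∧ j ≠ i ∧ perpB i j = true}.ncard = 45

/-- what becomes of a child -/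
inductive Out where
  | found (six : List ℕ)
  | kill (m : ℕ) (ws : List ℕ)
  | node (k : ℕ)

/-- a child: a representative, its orbit, a derivation and the outcome -/
structure Child where
  x : ℕ
  orbit : List ℕ
  der : List ℕ
  out : Out

/-- a node: seed, all members, a derivation, a deficient member and the children -/
structure Node where
  seed : List ℕ
  L : List ℕ
  der : List ℕ
  low : Option ℕ
  ch : List Child

/-- the node of a number -/
def nodeAt (ns : List Node) (k : ℕ) : Node := ns.getD k ⟨[], [], [], none, []⟩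

/-- the check of an outcome -/
noncomputable def outChk (bs : List (List Bool)) (ns : List Node) (i : ℕ) (M : ℕ) : Out → Bool
  | .found six => !bs.isEmpty && six.all (has M) && fits bs [] six
  | .kill m ws => has M m && (ws.all fun w => has M w && !Nat.beq w m && perpB m w) &&
      Nat.ble 46 ws.length && decide ws.Nodup
  | .node k => Nat.blt i k && Nat.blt k ns.length && (nodeAt ns k).seed.all (has M)

/-- the check of a node -/
noncomputable def nodeChk (bs : List (List Bool)) (ns : List Node) (i : ℕ) : Bool :=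
  let n := nodeAt ns i
  strict (grow n.der (maskOf n.seed)) fun M => strict (maskOf n.L) fun Lm =>
    n.L.all (has M) &&
      (match n.low with
        | none => true
        | some u => has Lm u && Nat.blt (n.L.filter fun v => !Nat.beq v u && perpB u v).length 45) &&
      (n.ch.all fun c => Nat.blt c.x 693 &&
        strict (grow c.der (maskOf (c.x :: n.seed))) fun M2 => outChk bs ns i M2 c.out) &&
      strict (n.ch.foldr (fun c O => orb Lm c.orbit (1 <<< c.x) ||| O) Lm) fun C =>
        (List.range 693).all (has C)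

/-- some members form a given pattern -/
def Found (bs : List (List Bool)) (S : ℕ → Prop) : Prop :=
  bs ≠ [] ∧ ∃ p, (∀ u ∈ p, S u) ∧ fits bs [] p = true

/-- the set is one of the final nodes -/
def Exact (ns : List Node) (S : ℕ → Prop) : Prop :=
  ∃ n ∈ ns, n.low = none ∧ ∀ i, S i ↔ i ∈ n.L

theorem classify {bs : List (List Bool)} {ns : List Node}
    (h : ∀ i < ns.length, nodeChk bs ns i = true) {S : ℕ → Prop} (hS : Regular S) :
    ∀ k i, i < ns.length → ns.length ≤ i + k → (∀ u ∈ (nodeAt ns i).seed, S u) →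
      Found bs S ∨ Exact ns S := by
  intro k
  induction k with
  | zero => intro i hi hk; omega
  | succ k ih =>
    intro i hi hk hseed
    have hn := h i hi
    simp only [nodeChk, strict_eq, Bool.and_eq_true, List.all_eq_true, Nat.blt_eq] at hn
    obtain ⟨⟨⟨hL, hlow⟩, hch⟩, hcov⟩ := hn
    set n := nodeAt ns i
    have hLS : ∀ u ∈ n.L, S u := fun u hu =>
      grow_spec hS.toClosed (fun v hv => hseed v (has_maskOf.1 hv)) u (hL u hu)
    by_cases hout : ∀ u, S u → u ∈ n.L
    · cases hl : n.low with
      | none =>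
        refine Or.inr ⟨n, ?_, hl, fun u => ⟨hout u, hLS u⟩⟩
        simp only [n, nodeAt]
        rw [List.getD_eq_getElem _ _ hi]
        exact List.getElem_mem hi
      | some u =>
        exfalso
        rw [hl] at hlow
        simp only [Bool.and_eq_true, Nat.blt_eq, has_maskOf] at hlow
        have hsub : {j | S j ∧ j ≠ u ∧ perpB u j = true} ⊆
            ↑(n.L.filter fun v => !Nat.beq v u && perpB u v).toFinset := by
          rintro j ⟨h1, h2, h3⟩
          have hb : Nat.beq j u = false :=
            Bool.eq_false_iff.2 fun e => h2 (Nat.eq_of_beq_eq_true e)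
          simp [hout j h1, h3, hb]
        have h1 := (Set.ncard_le_ncard hsub (Finset.finite_toSet _)).trans
          ((Set.ncard_coe_finset _).le.trans (List.toFinset_card_le _))
        rw [hS.reg (hLS u hlow.1)] at h1
        omega
    · obtain ⟨u, hu, huL⟩ : ∃ u, S u ∧ u ∉ n.L := by simpa using hout
      have hu' := hcov u (List.mem_range.2 (hS.lt hu))
      have key : ∀ (cs : List Child),
          has (cs.foldr (fun c O => orb (maskOf n.L) c.orbit (1 <<< c.x) ||| O) (maskOf n.L)) u = true →
            ∃ c ∈ cs, has (orb (maskOf n.L) c.orbit (1 <<< c.x)) u = true := by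
        intro cs
        induction cs with
        | nil => intro hh; exact absurd (has_maskOf.1 hh) huL
        | cons c cs ih =>
          intro hh
          rw [List.foldr_cons, has_iff, Nat.testBit_or, Bool.or_eq_true, ← has_iff, ← has_iff] at hh
          rcases hh with hh | hh
          · exact ⟨c, List.mem_cons_self .., hh⟩
          · obtain ⟨c', h1, h2⟩ := ih hh
            exact ⟨c', List.mem_cons_of_mem _ h1, h2⟩
      obtain ⟨c, hc, hcu⟩ := key _ hu'
      obtain ⟨hcx, hcout⟩ := hch c hc
      have hx : S c.x := (orb_spec hS.toClosed (fun v hv => hLS v (has_maskOf.1 hv))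
        (fun v hv => by rw [has_one] at hv; subst hv; exact ⟨hcx, id⟩) u hcu).2 hu
      have hM : ∀ v, has (grow c.der (maskOf (c.x :: n.seed))) v = true → S v :=
        grow_spec hS.toClosed fun v hv => by
          rcases List.mem_cons.1 (has_maskOf.1 hv) with rfl | hv
          · exact hx
          · exact hseed v hv
      cases ho : c.out with
      | found six =>
        rw [ho] at hcout
        simp only [outChk, Bool.and_eq_true, List.all_eq_true] at hcout
        exact Or.inl ⟨fun e => by simp [e] at hcout, six, fun v hv => hM v (hcout.1.2 v hv), hcout.2⟩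
      | kill m ws =>
        exfalso
        rw [ho] at hcout
        simp only [outChk, Bool.and_eq_true, List.all_eq_true, decide_eq_true_eq, Nat.ble_eq,
          Bool.not_eq_true'] at hcout
        obtain ⟨⟨⟨hm, hws⟩, hlen⟩, hnd⟩ := hcout
        have hsub : ↑ws.toFinset ⊆ {j | S j ∧ j ≠ m ∧ perpB m j = true} := by
          intro j hj
          obtain ⟨⟨h1, h2⟩, h3⟩ := hws j (List.mem_toFinset.1 hj)
          refine ⟨hM j h1, fun e => ?_, h3⟩
          subst e; simp at h2
        have h1 := Set.ncard_le_ncard hsub ((Set.finite_lt_nat 693).subset fun j hj => hS.lt hj.1)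
        rw [Set.ncard_coe_finset, List.toFinset_card_of_nodup hnd, hS.reg (hM m hm)] at h1
        omega
      | node k' =>
        rw [ho] at hcout
        simp only [outChk, Bool.and_eq_true, List.all_eq_true, Nat.blt_eq] at hcout
        exact ih k' hcout.1.2 (by omega) fun v hv => hM v (hcout.2 v hv)

end CfsgLib.TypeM22
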