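import Cfsg.Agent.Lib.Classical.UnitaryTrans
import Cfsg.Agent.Lib.Classical.UnitaryTransvectionClass
import Cfsg.Agent.Lib.HePres.Sp4
import Cfsg.Agent.Lib.Fischer.TranspositionClass
import Cfsg.Prelude.Def_FischerSpaces

/-!
A class of 3-transpositions of the projective special unitary group of degree six over four elements
consists of transvections: two commuting transvections with independent centres generate, with two further
ones, an element whose product with a conjugate has order at least four.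
-/

set_option autoImplicit false
set_option linter.unusedSectionVars false

namespace CfsgLib.TypeM22

open Cfsg Matrix CfsgLib.Classical.Herm
open CfsgLib.ClassicalAut (Unitary.Conj)
open CfsgLib.HePres (K4)

/-- the group -/
abbrev SU6 : Subgroup (Matrix.SpecialLinearGroup (Fin 6) K4) := Cfsg.SU 6 K4 2

/-- its central quotient -/
abbrev PSU6 : Type := Cfsg.PSU 6 K4 2

/-- the vectors -/
abbrev V : Type := Fin 6 → K4

local notation "h" => hermForm 6 K4 2

theorem self_add (c : K4) : c + c = 0 := by revert c; decide +kernel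

theorem vec_self_add (x : V) : x + x = 0 := funext fun _ => self_add _

theorem add_left (a b c : V) : h (a + b) c = h a c + h b c := by
  simp only [hermForm, Pi.add_apply, add_mul, Finset.sum_add_distrib]

theorem smul_left (t : K4) (a c : V) : h (t • a) c = t * h a c := by
  simp only [hermForm, Pi.smul_apply, smul_eq_mul, Finset.mul_sum, mul_assoc]

theorem k4_sq : ∀ a b : K4, (a + b) ^ 2 = a ^ 2 + b ^ 2 ∧ (a ^ 2) ^ 2 = a := by
  simp only [pow_two]; decide +kernel

theorem swap_h (a b : V) : h b a = h a b ^ 2 := by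
  obtain ⟨K⟩ := exists_conj_of_card (F := K4) (q := 2) (by rw [K4.card_eq]; norm_num)
  rw [h_swap K a b, K.bar_apply]

theorem add_right (a b c : V) : h c (a + b) = h c a + h c b := by
  rw [swap_h, add_left, (k4_sq _ _).1, ← swap_h, ← swap_h]

theorem smul_right (t : K4) (a c : V) : h c (t • a) = t ^ 2 * h c a := by
  rw [swap_h, smul_left, mul_pow, ← swap_h]

theorem h_zero_left (a : V) : h 0 a = 0 := by simp [hermForm]

theorem h_self (a : V) : h a a = 0 ∨ h a a = 1 := by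
  have key : ∀ c : K4, c = c * c → c = 0 ∨ c = 1 := by decide +kernel
  exact key _ (by rw [← pow_two]; exact swap_h a a)

theorem quad : ∀ a α : K4, α + α * α = a → a + α ^ 2 + α = 0 := by simp only [pow_two]; decide +kernel

/-- the transvection with the given centre -/
def IsTv (g : SU6) (v : V) : Prop := h v v = 0 ∧ ∀ x, app g x = x + h x v • v

theorem exists_tv {v : V} (hv : h v v = 0) : ∃ g : SU6, IsTv g v := by
  obtain ⟨K⟩ := exists_conj_of_card (F := K4) (q := 2) (by rw [K4.card_eq]; norm_num)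
  obtain ⟨g, hg⟩ := exists_T K (c := 1) hv (by rw [map_one]; exact self_add 1)
  exact ⟨g, hg.1, fun x => by rw [hg.2.2, one_mul]⟩

namespace IsTv

variable {g t s : SU6} {v w : V}

theorem app_fix (ht : IsTv t v) {x : V} (hx : h x v = 0) : app t x = x := by
  rw [ht.2, hx, zero_smul, add_zero]

theorem app_one' (ht : IsTv t v) {x : V} (hx : h x v = 1) : app t x = x + v := by
  rw [ht.2, hx, one_smul]

theorem unique (ht : IsTv t v) (hs : IsTv s v) : t = s := ext_app fun x => by rw [ht.2, hs.2]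

theorem sq (ht : IsTv t v) : t * t = 1 := ext_app fun x => by
  rw [app_mul, app_one, ht.2, ht.2, add_left, smul_left, ht.1, mul_zero, add_zero, add_assoc,
    vec_self_add, add_zero]

theorem inv (ht : IsTv t v) : t⁻¹ = t := inv_eq_of_mul_eq_one_right ht.sq

theorem conj (ht : IsTv t v) (g : SU6) : IsTv (g * t * g⁻¹) (app g v) := by
  refine ⟨by rw [h_app]; exact ht.1, fun x => ?_⟩
  obtain ⟨y, rfl⟩ : ∃ y, x = app g y := ⟨app g⁻¹ x, (app_inv' g x).symm⟩
  rw [app_mul, app_mul, app_inv, ht.2, app_add, app_smul, h_app]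

theorem comm_of_fix (ht : IsTv t v) (hg : app g v = v) : Commute g t := by
  have e := (ht.conj g)
  rw [hg] at e
  exact mul_inv_eq_iff_eq_mul.1 (e.unique ht)

theorem smul (ht : IsTv t v) {c : K4} (hc : c ≠ 0) : IsTv t (c • v) := by
  have h3 : ∀ c : K4, c ≠ 0 → c ^ 2 * c = 1 := by simp only [pow_two]; decide +kernel
  refine ⟨by rw [smul_left, smul_right, ht.1, mul_zero, mul_zero], fun x => ?_⟩
  rw [ht.2, smul_right, smul_smul, mul_comm (c ^ 2), mul_assoc, h3 c hc, mul_one]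

end IsTv

/-- An element with a nontrivial Hermitian displacement has a transvection as a factor. -/
theorem split_off {g : SU6} (hg : g * g = 1) (hne : g ≠ 1) : ∃ (u v : V) (t : SU6),
    app g u = u + v ∧ h u v = 1 ∧ app g v = v ∧ IsTv t v ∧ Commute t g ∧ app (t * g) u = u := by
  have hgg : ∀ x, app g (app g x) = x := fun x => by rw [← app_mul, hg, app_one]
  have hsym : ∀ x y : V, h (app g y) x = h (app g x) y ^ 2 := fun x y => by
    rw [← swap_h, ← h_app g (app g y) x, hgg]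
  -- the displacement form
  let β : V → V → K4 := fun x y => h (app g x + x) y
  have hβ : ∃ u, β u u ≠ 0 := by
    by_contra! hall
    refine hne (ext_app fun x => ?_)
    have hp : ∀ y, β x y = 0 := fun y => by
      have hs : ∀ a b, β b a = β a b ^ 2 := fun a b => by
        simp only [β, add_left, (k4_sq _ _).1, hsym a b]
        rw [← swap_h a b]
      have key : ∀ c : K4, (∀ k : K4, k * k * c + k * (c * c) = 0) → c = 0 := by decide +kernel
      refine key _ fun k => ?_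
      have e := hall (x + k • y)
      have ex := hall x
      have ey := hall y
      simp only [β, app_add, app_smul, add_left, smul_left, add_right, smul_right] at e ex ey
      have exy := hs x y
      simp only [β, add_left] at exy
      have : h (app g x + x) y = h (app g x) y + h x y := add_left _ _ _
      simp only [β, this]
      simp only [pow_two] at e exy ⊢
      linear_combination e - ex - k * (k * k) * ey - k * exy
    have h0 : app g x + x = 0 := by
      obtain ⟨K⟩ := exists_conj_of_card (F := K4) (q := 2) (by rw [K4.card_eq]; norm_num)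
      funext i
      have e := hp (Pi.single i 1)
      rw [show β x (Pi.single i 1) = h (app g x + x) (Pi.single i 1) from rfl, swap_h,
        h_single_left K, K.bar_apply, (k4_sq _ 0).2] at e
      exact e
    rw [app_one, ← add_zero (app g x), ← vec_self_add x, ← add_assoc, h0, zero_add]
  obtain ⟨u, hu⟩ := hβ
  have hval : h (app g u) u + h u u = 1 := by
    have key : ∀ c : K4, c = c * c → c ≠ 0 → c = 1 := by decide +kernel
    rw [← add_left]
    refine key _ ?_ hu
    rw [← pow_two, add_left, (k4_sq _ _).1, ← hsym u u, ← swap_h u u]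
  have hgu : h u (app g u) = h (app g u) u := by rw [swap_h, ← hsym]
  set v := app g u + u with hv
  have huv : h u v = 1 := by rw [hv, add_right, hgu, hval]
  have hvv : h v v = 0 := by
    rw [hv, add_left, add_right, add_right, h_app, hgu, add_comm (h u u) (h (app g u) u), self_add]
  have hgv : app g v = v := by rw [hv, app_add, hgg, add_comm]
  obtain ⟨t, ht⟩ := exists_tv hvv
  have hgu' : app g u = u + v := by rw [hv, add_comm (app g u) u, ← add_assoc, vec_self_add, zero_add]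
  refine ⟨u, v, t, hgu', huv, hgv, ht, (ht.comm_of_fix hgv).symm, ?_⟩
  rw [app_mul, hgu', app_add, ht.app_one' huv, ht.app_fix hvv, add_assoc, vec_self_add, add_zero]

/-- The product of a non-transvection with a suitable conjugate has order more than three. -/
theorem bad_product {g : SU6} (hg : g * g = 1) (hne : g ≠ 1) (hnt : ∀ t v, IsTv t v → g ≠ t) :
    ∃ k : SU6, ∀ m, 1 ≤ m → m ≤ 3 → (g * (k * g * k⁻¹)) ^ m ∉ Subgroup.center SU6 := by
  obtain ⟨u, v₁, t₁, hgu, huv, hgv, ht₁, hc₁, hfu⟩ := split_off hg hne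
  set g₂ := t₁ * g with hg₂
  have hg22 : g₂ * g₂ = 1 := by
    rw [hg₂, show t₁ * g * (t₁ * g) = t₁ * (g * t₁) * g by group, ← hc₁.eq,
      show t₁ * (t₁ * g) * g = t₁ * t₁ * (g * g) by group, ht₁.sq, hg, one_mul]
  have hg2ne : g₂ ≠ 1 := fun e => hnt t₁ v₁ ht₁ (by
    rw [← one_mul g, ← ht₁.sq, mul_assoc, ← hg₂, e, mul_one])
  have hg2v : app g₂ v₁ = v₁ := by rw [hg₂, app_mul, hgv, ht₁.app_fix ht₁.1]
  obtain ⟨u₂, v₂, t₂, hgu₂, huv₂, hgv₂, ht₂, hc₂, hfu₂⟩ := split_off hg22 hg2ne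
  set g₃ := t₂ * g₂ with hg₃
  have hv₂ : v₂ = app g₂ u₂ + u₂ := by rw [hgu₂, add_comm u₂, add_assoc, vec_self_add, add_zero]
  have hperp : ∀ z, app g₂ z = z → h z v₂ = 0 := fun z hz => by
    rw [hv₂, add_right]
    nth_rw 1 [← hz]
    rw [h_app, self_add]
  have h12 : h v₁ v₂ = 0 := hperp v₁ hg2v
  have hu2 : h u v₂ = 0 := hperp u hfu
  have h21 : h v₂ v₁ = 0 := by rw [swap_h, h12]; simp
  have f3v₁ : app g₃ v₁ = v₁ := by rw [hg₃, app_mul, hg2v, ht₂.app_fix h12]
  have f3v₂ : app g₃ v₂ = v₂ := by rw [hg₃, app_mul, hgv₂, ht₂.app_fix ht₂.1]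
  have f3u : app g₃ u = u := by rw [hg₃, app_mul, hfu, ht₂.app_fix hu2]
  have f3u₂ : app g₃ u₂ = u₂ := hfu₂
  -- two orthogonal hyperbolic pairs
  have htr : ∀ a : K4, (a = 0 ∨ a = 1) → ∃ α : K4, α + α * α = a := by decide +kernel
  obtain ⟨α, hα⟩ := htr _ (h_self u)
  obtain ⟨U₁, hU₁⟩ : ∃ U, U = u + α • v₁ := ⟨_, rfl⟩
  have hU1v : h U₁ v₁ = 1 := by rw [hU₁, add_left, smul_left, ht₁.1, mul_zero, add_zero, huv]
  have hU1v2 : h U₁ v₂ = 0 := by rw [hU₁, add_left, smul_left, h12, mul_zero, add_zero, hu2]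
  have hv1u : h v₁ u = 1 := by rw [swap_h, huv, one_pow]
  have hU11 : h U₁ U₁ = 0 := by
    rw [hU₁, add_left, smul_left, add_right, add_right, smul_right, smul_right, ht₁.1, huv, hv1u]
    simpa [add_assoc] using quad _ _ hα
  have f3U₁ : app g₃ U₁ = U₁ := by rw [hU₁, app_add, app_smul, f3u, f3v₁]
  obtain ⟨w, hw⟩ : ∃ U, U = u₂ + h u₂ v₁ • U₁ := ⟨_, rfl⟩
  have hwv₁ : h w v₁ = 0 := by rw [hw, add_left, smul_left, hU1v, mul_one, self_add]
  have hwv₂ : h w v₂ = 1 := by rw [hw, add_left, smul_left, hU1v2, mul_zero, add_zero, huv₂]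
  obtain ⟨β, hβ⟩ := htr _ (h_self w)
  obtain ⟨w', hw'⟩ : ∃ U, U = w + β • v₂ := ⟨_, rfl⟩
  have hw'v₁ : h w' v₁ = 0 := by rw [hw', add_left, smul_left, h21, mul_zero, add_zero, hwv₁]
  have hw'v₂ : h w' v₂ = 1 := by rw [hw', add_left, smul_left, ht₂.1, mul_zero, add_zero, hwv₂]
  have hw'w' : h w' w' = 0 := by
    rw [hw', add_left, smul_left, add_right, add_right, smul_right, smul_right, ht₂.1, hwv₂,
      swap_h w v₂, hwv₂]
    simpa [add_assoc] using quad _ _ hβ
  obtain ⟨U₂, hU₂⟩ : ∃ U, U = w' + h w' U₁ • v₁ := ⟨_, rfl⟩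
  have hU2v₁ : h U₂ v₁ = 0 := by rw [hU₂, add_left, smul_left, ht₁.1, mul_zero, add_zero, hw'v₁]
  have hU2v₂ : h U₂ v₂ = 1 := by rw [hU₂, add_left, smul_left, h12, mul_zero, add_zero, hw'v₂]
  have hU22 : h U₂ U₂ = 0 := by
    have e : h v₁ w' = 0 := by rw [swap_h, hw'v₁]; simp
    rw [hU₂, add_left, smul_left, add_right, add_right, smul_right, smul_right, ht₁.1, hw'v₁, e, hw'w']
    simp
  have hU21 : h U₂ U₁ = 0 := by
    rw [hU₂, add_left, smul_left, show h v₁ U₁ = 1 by rw [swap_h, hU1v, one_pow], mul_one, self_add]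
  have f3U₂ : app g₃ U₂ = U₂ := by
    rw [hU₂, hw', hw]; simp only [app_add, app_smul, f3U₁, f3v₁, f3v₂, f3u₂]
  have hU12 : h U₁ U₂ = 0 := by rw [swap_h, hU21]; simp
  have hv1U1 : h v₁ U₁ = 1 := by rw [swap_h, hU1v, one_pow]
  have hv2U2 : h v₂ U₂ = 1 := by rw [swap_h, hU2v₂, one_pow]
  have hv1U2 : h v₁ U₂ = 0 := by rw [swap_h, hU2v₁]; simp
  have hv2U1 : h v₂ U₁ = 0 := by rw [swap_h, hU1v2]; simp
  obtain ⟨tp, htp⟩ := exists_tv (v := U₁ + U₂) (by
    rw [add_left, add_right, add_right, hU11, hU12, hU21, hU22]; simp)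
  obtain ⟨tq, htq⟩ := exists_tv hU22
  set k := tp * tq with hk
  have ck : Commute k g₃ := ((htp.comm_of_fix (g := g₃) (by rw [app_add, f3U₁, f3U₂])).symm).mul_left
    (htq.comm_of_fix (g := g₃) f3U₂).symm
  have kv₁ : app k v₁ = v₁ + (U₁ + U₂) := by
    rw [hk, app_mul, htq.app_fix hv1U2, htp.app_one' (by rw [add_right, hv1U1, hv1U2, add_zero])]
  have kv₂ : app k v₂ = v₂ + U₁ := by
    rw [hk, app_mul, htq.app_one' hv2U2, app_add, htp.app_one' (by rw [add_right, hv2U1, hv2U2, zero_add]),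
      htp.app_fix (x := U₂) (by rw [add_right, hU21, hU22, add_zero]), add_assoc, add_assoc, vec_self_add,
      add_zero]
  obtain ⟨w₁, hw₁⟩ : ∃ U, U = v₁ + (U₁ + U₂) := ⟨_, rfl⟩
  obtain ⟨w₂, hw₂⟩ : ∃ U, U = v₂ + U₁ := ⟨_, rfl⟩
  have hs₁ : IsTv (k * t₁ * k⁻¹) w₁ := hw₁ ▸ kv₁ ▸ ht₁.conj k
  have hs₂ : IsTv (k * t₂ * k⁻¹) w₂ := hw₂ ▸ kv₂ ▸ ht₂.conj k
  have hgf : g = t₁ * (t₂ * g₃) := by
    rw [hg₃, ← mul_assoc t₂, ht₂.sq, one_mul, hg₂, ← mul_assoc, ht₁.sq, one_mul]
  have c3w₁ : Commute g₃ (k * t₁ * k⁻¹) := hs₁.comm_of_fix (by rw [hw₁, app_add, app_add, f3v₁, f3U₁, f3U₂])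
  have c3w₂ : Commute g₃ (k * t₂ * k⁻¹) := hs₂.comm_of_fix (by rw [hw₂, app_add, f3v₂, f3U₁])
  have h33 : g₃ * g₃ = 1 := by
    rw [hg₃, show t₂ * g₂ * (t₂ * g₂) = t₂ * (g₂ * t₂) * g₂ by group, ← hc₂.eq,
      show t₂ * (t₂ * g₂) * g₂ = t₂ * t₂ * (g₂ * g₂) by group, ht₂.sq, hg22, one_mul]
  set P := t₁ * t₂ * (k * t₁ * k⁻¹) * (k * t₂ * k⁻¹) with hP
  have hprod : g * (k * g * k⁻¹) = P := by
    have e : k * g * k⁻¹ = k * t₁ * k⁻¹ * (k * t₂ * k⁻¹) * g₃ := by
      rw [hgf, show k * (t₁ * (t₂ * g₃)) * k⁻¹ = k * t₁ * k⁻¹ * (k * t₂ * k⁻¹) * (k * g₃ * k⁻¹) by group,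
        ck.eq, mul_inv_cancel_right]
    rw [e, hP, hgf]
    calc t₁ * (t₂ * g₃) * (k * t₁ * k⁻¹ * (k * t₂ * k⁻¹) * g₃)
        = t₁ * t₂ * (g₃ * (k * t₁ * k⁻¹ * (k * t₂ * k⁻¹))) * g₃ := by group
      _ = t₁ * t₂ * (k * t₁ * k⁻¹) * (k * t₂ * k⁻¹) * (g₃ * g₃) := by
        rw [(c3w₁.mul_right c3w₂).eq]; group
      _ = _ := by rw [h33, mul_one]
  refine ⟨k, fun m h1 h3 hz => ?_⟩
  rw [hprod] at hz
  obtain ⟨K⟩ := exists_conj_of_card (F := K4) (q := 2) (by rw [K4.card_eq]; norm_num)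
  obtain ⟨c, hc⟩ := (center_iff K (by norm_num) _).1 hz
  have hact : app (P ^ m) v₁ = c • v₁ := by rw [app, hc, smul_mulVec, one_mulVec]
  -- the orbit of the first centre
  have hform : ∀ a b c' d : K4, ∀ z, h (a • v₁ + b • U₁ + c' • v₂ + d • U₂) z =
      a * h v₁ z + b * h U₁ z + c' * h v₂ z + d * h U₂ z := fun a b c' d z => by
    simp only [add_left, smul_left]
  have step : ∀ (a b c' d : K4), app P (a • v₁ + b • U₁ + c' • v₂ + d • U₂) =
      app t₁ (app t₂ (app (k * t₁ * k⁻¹) (app (k * t₂ * k⁻¹) (a • v₁ + b • U₁ + c' • v₂ + d • U₂)))) :=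
    fun a b c' d => by rw [hP, app_mul, app_mul, app_mul]
  have f1 : ∀ a b c' d : K4, app t₁ (a • v₁ + b • U₁ + c' • v₂ + d • U₂) =
      (a + b) • v₁ + b • U₁ + c' • v₂ + d • U₂ := fun a b c' d => by
    rw [ht₁.2, hform, ht₁.1, hU1v, h21, hU2v₁]; module
  have f2 : ∀ a b c' d : K4, app t₂ (a • v₁ + b • U₁ + c' • v₂ + d • U₂) =
      a • v₁ + b • U₁ + (c' + d) • v₂ + d • U₂ := fun a b c' d => by
    rw [ht₂.2, hform, h12, hU1v2, ht₂.1, hU2v₂]; module
  have f3 : ∀ a b c' d : K4, app (k * t₁ * k⁻¹) (a • v₁ + b • U₁ + c' • v₂ + d • U₂) =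
      (a + (a + b + c')) • v₁ + (b + (a + b + c')) • U₁ + c' • v₂ + (d + (a + b + c')) • U₂ := fun a b c' d => by
    rw [hs₁.2, hform, hw₁]
    simp only [add_right, ht₁.1, hv1U1, hv1U2, hU1v, hU11, hU12, h21, hv2U1, hv2U2, hU2v₁, hU21, hU22]
    module
  have f4 : ∀ a b c' d : K4, app (k * t₂ * k⁻¹) (a • v₁ + b • U₁ + c' • v₂ + d • U₂) =
      a • v₁ + (b + (a + d)) • U₁ + (c' + (a + d)) • v₂ + d • U₂ := fun a b c' d => by
    rw [hs₂.2, hform, hw₂]
    simp only [add_right, h12, hv1U1, hU1v2, hU11, ht₂.1, hv2U1, hU2v₂, hU21]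
    module
  have one : ∀ a b c' d a' b' c'' d' : K4,
      (a + (a + (b + (a + d)) + (c' + (a + d))) + (b + (a + d) + (a + (b + (a + d)) + (c' + (a + d))))) = a' →
      (b + (a + d) + (a + (b + (a + d)) + (c' + (a + d)))) = b' →
      (c' + (a + d) + (d + (a + (b + (a + d)) + (c' + (a + d))))) = c'' →
      (d + (a + (b + (a + d)) + (c' + (a + d)))) = d' →
      app P (a • v₁ + b • U₁ + c' • v₂ + d • U₂) = a' • v₁ + b' • U₁ + c'' • v₂ + d' • U₂ := by
    intro a b c' d a' b' c'' d' ea eb ec ed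
    rw [step, f4, f3, f2, f1, ea, eb, ec, ed]
  have p1 : app P v₁ = (0 : K4) • v₁ + (0 : K4) • U₁ + (0 : K4) • v₂ + (1 : K4) • U₂ := by
    have := one 1 0 0 0 0 0 0 1 (by decide +kernel) (by decide +kernel) (by decide +kernel) (by decide +kernel)
    refine Eq.trans ?_ this
    simp
  have p2 : app P ((0 : K4) • v₁ + (0 : K4) • U₁ + (0 : K4) • v₂ + (1 : K4) • U₂) =
      (1 : K4) • v₁ + (1 : K4) • U₁ + (0 : K4) • v₂ + (1 : K4) • U₂ :=
    one _ _ _ _ _ _ _ _ (by decide +kernel) (by decide +kernel) (by decide +kernel) (by decide +kernel)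
  have p3 : app P ((1 : K4) • v₁ + (1 : K4) • U₁ + (0 : K4) • v₂ + (1 : K4) • U₂) =
      (0 : K4) • v₁ + (1 : K4) • U₁ + (1 : K4) • v₂ + (1 : K4) • U₂ :=
    one _ _ _ _ _ _ _ _ (by decide +kernel) (by decide +kernel) (by decide +kernel) (by decide +kernel)
  have hz1 : ∀ z : V, h (c • v₁) z = c * h v₁ z := fun z => smul_left _ _ _
  interval_cases m
  · rw [pow_one, p1] at hact
    have := congrArg (fun z => h z v₂) hact
    simp only [hform, smul_left, h12, hU1v2, ht₂.1, hU2v₂] at this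
    simp at this
  · rw [pow_two, app_mul, p1, p2] at hact
    have := congrArg (fun z => h z v₁) hact
    simp only [hform, smul_left, ht₁.1, hU1v, h21, hU2v₁] at this
    simp at this
  · rw [pow_succ, pow_two, app_mul, app_mul, p1, p2, p3] at hact
    have := congrArg (fun z => h z v₁) hact
    simp only [hform, smul_left, ht₁.1, hU1v, h21, hU2v₁] at this
    simp at this

/-- the images of the transvections -/
def tvSet : Set PSU6 := {x | ∃ (t : SU6) (v : V), v ≠ 0 ∧ IsTv t v ∧ (t : PSU6) = x}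

/-- A class of 3-transpositions is the class of transvections. -/
theorem class_eq_tvSet {E : Set PSU6} (hE : IsThreeTranspositionClass E) : E = tvSet := by
  obtain ⟨K⟩ := exists_conj_of_card (F := K4) (q := 2) (by rw [K4.card_eq]; norm_num)
  have hc : ∀ (g : PSU6), ∀ x ∈ E, g * x * g⁻¹ ∈ E := fun g x hx => by
    obtain ⟨a, -, he⟩ := hE.2.1
    rw [he] at hx ⊢
    exact (show IsConj a x from hx).trans (isConj_iff.2 ⟨g, rfl⟩)
  have hsub : E ⊆ tvSet := by
    intro x hx
    obtain ⟨g₀, rfl⟩ := QuotientGroup.mk_surjective x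
    have ho := hE.1.1 _ hx
    have hz : g₀ * g₀ ∈ Subgroup.center SU6 := by
      rw [← QuotientGroup.eq_one_iff]
      have := pow_orderOf_eq_one (g₀ : PSU6)
      rwa [ho, pow_two, ← QuotientGroup.mk_mul] at this
    set z := g₀ * g₀ with hzdef
    have hz3 : z * z * z = 1 := by
      obtain ⟨c, hc⟩ := (center_iff K (by norm_num) _).1 hz
      have hd := z.1.2
      rw [hc, Matrix.det_smul, Matrix.det_one, mul_one] at hd
      have hc3 : ∀ a : K4, a ^ Fintype.card (Fin 6) = 1 → a * (a * a) = 1 := by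
        simp only [Fintype.card_fin]; decide +kernel
      refine ext_app fun x => ?_
      have e : ∀ y, app z y = c • y := fun y => by rw [app, hc, smul_mulVec, one_mulVec]
      rw [app_mul, app_mul, e, e, e, app_one, smul_smul, smul_smul, mul_assoc, hc3 c hd, one_smul]
    set g := g₀ * z with hgdef
    have hzc : Commute z g₀ := ((Commute.refl g₀).mul_left (Commute.refl g₀))
    have hg : g * g = 1 := by
      rw [hgdef, show g₀ * z * (g₀ * z) = g₀ * (z * g₀) * z by group, hzc.eq,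
        show g₀ * (g₀ * z) * z = g₀ * g₀ * z * z by group, ← hzdef, hz3]
    have hgx : (g : PSU6) = g₀ := by
      rw [hgdef, QuotientGroup.mk_mul, (QuotientGroup.eq_one_iff z).2 hz, mul_one]
    have hne : g ≠ 1 := fun e => by
      rw [e, QuotientGroup.mk_one] at hgx
      rw [← hgx, orderOf_one] at ho
      exact absurd ho (by norm_num)
    by_contra hno
    obtain ⟨k, hk⟩ := bad_product hg hne fun t v ht e => hno ⟨t, v, fun hv => hne (by
      rw [e]; exact ext_app fun y => by rw [ht.2, hv, smul_zero, add_zero, app_one]), ht, e ▸ hgx⟩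
    have hm : ∀ m : ℕ, ((g₀ : PSU6) * ((k : PSU6) * g₀ * (k : PSU6)⁻¹)) ^ m = 1 →
        (g * (k * g * k⁻¹)) ^ m ∈ Subgroup.center SU6 := fun m h1 =>
      (QuotientGroup.eq_one_iff _).1 (by
        simpa only [QuotientGroup.mk_pow, QuotientGroup.mk_mul, QuotientGroup.mk_inv, hgx] using h1)
    rcases hE.1.2 _ hx _ (hc (k : PSU6) _ hx) with h2 | h3
    · exact hk 2 (by norm_num) (by norm_num) (hm 2 h2)
    · exact hk 3 (by norm_num) le_rfl (hm 3 h3)
  refine Set.Subset.antisymm hsub ?_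
  rintro x ⟨t, v, hv, ht, rfl⟩
  obtain ⟨a, ha, -⟩ := hE.2.1
  obtain ⟨s, w, hw, hs, rfl⟩ := hsub ha
  have rk : ∀ {t : SU6} {v : V}, v ≠ 0 → IsTv t v →
      ((t.1 : Matrix (Fin 6) (Fin 6) K4) - 1).rank = 1 ∧
        ((t.1 : Matrix (Fin 6) (Fin 6) K4) - 1) * ((t.1 : Matrix (Fin 6) (Fin 6) K4) - 1) = 0 := by
    intro t v hv ht
    have hM : (t.1 : Matrix (Fin 6) (Fin 6) K4) - 1 = vecMulVec v (fun i => v i ^ 2) := by
      refine sub_eq_iff_eq_add'.2 (Matrix.ext_of_mulVec_single fun i => ?_)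
      rw [Matrix.add_mulVec, Matrix.one_mulVec, Matrix.vecMulVec_mulVec]
      refine (ht.2 _).trans ?_
      rw [op_smul_eq_smul]
      congr 2
      simp only [hermForm, dotProduct, mul_comm]
    refine ⟨?_, ?_⟩
    · rw [hM]
      refine CfsgLib.Fischer.rank_vecMulVec_eq_one hv fun e => hv (funext fun i => ?_)
      exact (pow_eq_zero_iff (by norm_num)).1 (congrFun e i)
    · rw [hM, vecMulVec_mul_vecMulVec, show (fun i => v i ^ 2) ⬝ᵥ v = 0 from ?_, zero_smul]
      · exact vecMulVec_zero _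
      · rw [← ht.1, hermForm, dotProduct]
        exact Finset.sum_congr rfl fun i _ => mul_comm _ _
  obtain ⟨r, hr⟩ := isConj_iff.1 (CfsgLib.Classical.UnitaryTransvectionClass.su_transvections
    (K := K4) (q := 2) (by rw [K4.card_eq]; norm_num) (by norm_num) s t (rk hw hs) (rk hv ht))
  rw [← hr, QuotientGroup.mk_mul, QuotientGroup.mk_mul, QuotientGroup.mk_inv]
  exact hc _ _ ha

end CfsgLib.TypeM22
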