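import Cfsg.Agent.Lib.TypeM22.Code
import Cfsg.Agent.Lib.TypeM22.Transvection
import Cfsg.Agent.Lib.ThreeTransp.RelationsType
import Cfsg.Agent.Lib.GTwoTwo.FieldCongr

/-!
The members commuting with one member of a group of type M(22) are numbered by the 693 isotropic points, with
commutation given by orthogonality and conjugation by the transvection action.
-/

set_option autoImplicit false
set_option linter.unusedSectionVars false

namespace CfsgLib.TypeM22

open Cfsg Matrix CfsgLib.Classical.Herm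
open CfsgLib.Fi22USix (pt code lk pr mem_pr lk_smul exists_pt pt_ne pt_iso pr_pt_inj)
open CfsgLib.HePres (K4)
open CfsgLib.ThreeTransp CfsgLib.ThreeTransp.Relations

local notation "h" => hermForm 6 K4 2

/-- the transvection of a point -/
noncomputable def tau (i : Fin 693) : SU6 := (exists_tv (pt_iso i)).choose

theorem tau_spec (i : Fin 693) : IsTv (tau i) (pt i) := (exists_tv (pt_iso i)).choose_spec

/-- its image in the projective group -/
noncomputable def tb (i : Fin 693) : PSU6 := (tau i : PSU6)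

theorem of_line (i : Fin 693) {v : V} (hv : v ≠ 0) {a : K4} (e : a • pt i = v) : ∃ c : K4, c ≠ 0 ∧ v = c • pt i :=
  ⟨a, fun h0 => hv (by rw [← e, h0, zero_smul]), e.symm⟩

theorem tb_inj : Function.Injective tb := fun i j e => by
  obtain ⟨K⟩ := exists_conj_of_card (F := K4) (q := 2) (by rw [K4.card_eq]; norm_num)
  by_contra hij
  have hz : tau i * tau j ∈ Subgroup.center SU6 := by
    rw [← QuotientGroup.eq_one_iff, QuotientGroup.mk_mul, show (tau i : PSU6) = tau j from e,
      ← QuotientGroup.mk_mul, (tau_spec j).sq, QuotientGroup.mk_one]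
  obtain ⟨c, hc⟩ := (center_iff K (by norm_num) _).1 hz
  have hact : ∀ x, app (tau i * tau j) x = c • x := fun x => by rw [app, hc, smul_mulVec, one_mulVec]
  have e1 := hact (pt i)
  rw [app_mul, (tau_spec j).2, app_add, app_smul, (tau_spec i).app_fix (pt_iso i), (tau_spec i).2] at e1
  by_cases h0 : h (pt i) (pt j) = 0
  · rw [h0, zero_smul, add_zero] at e1
    have hc1 : c = 1 := by
      by_contra hc1
      refine pt_ne i ?_
      have : (c - 1) • pt i = 0 := by rw [sub_smul, one_smul, ← e1, sub_self]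
      exact (smul_eq_zero.1 this).resolve_left (sub_ne_zero.2 hc1)
    have et : tau i = tau j := ext_app fun x => by
      have := hact (app (tau j) x)
      rwa [← app_mul, mul_assoc, (tau_spec j).sq, mul_one, hc1, one_smul] at this
    obtain ⟨k, hk⟩ := Function.ne_iff.1 (pt_ne i)
    have hx : h (Pi.single k 1) (pt i) ≠ 0 := by
      rw [h_single_left K, K.bar_apply]; exact pow_ne_zero _ hk
    have e2 := congrArg (fun t => app t (Pi.single k 1)) et
    simp only [(tau_spec i).2, (tau_spec j).2, add_right_inj] at e2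
    obtain ⟨a, ha, e3⟩ := of_line j (v := pt i) (pt_ne i)
      (a := (h (Pi.single k 1) (pt i))⁻¹ * h (Pi.single k 1) (pt j)) (by
        rw [mul_smul, ← e2, smul_smul, inv_mul_cancel₀ hx, one_smul])
    exact hij (pt_line ha e3).symm
  · obtain ⟨a, ha, e3⟩ := of_line i (v := pt j) (pt_ne j)
      (a := (h (pt i) (pt j))⁻¹ * (c - 1 - h (pt i) (pt j) * h (pt j) (pt i))) (by
        have e4 : h (pt i) (pt j) • pt j = (c - 1 - h (pt i) (pt j) * h (pt j) (pt i)) • pt i := by
          rw [sub_smul, sub_smul, ← e1, one_smul, smul_add, smul_smul]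
          abel
        rw [mul_smul, ← e4, smul_smul, inv_mul_cancel₀ h0, one_smul])
    exact hij (pt_line ha e3)

theorem R_lt_point (i j : Fin 693) :
    ∃ (k : Fin 693) (c : K4), c ≠ 0 ∧ app (tau i) (pt j) = c • pt k ∧ R i j = k := by
  have hv0 : app (tau i) (pt j) ≠ 0 := fun e => pt_ne j (by
    have := congrArg (app (tau i)) e
    rwa [← app_mul, (tau_spec i).sq, app_one, app, mulVec_zero] at this)
  have hq : h (app (tau i) (pt j)) (app (tau i) (pt j)) = 0 := (h_app _ _ _).trans (pt_iso j)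
  obtain ⟨k, hk⟩ := exists_pt hv0 hq
  obtain ⟨c, hc, e⟩ := mem_pr.1 (hk ▸ mem_pr.2 ⟨1, one_ne_zero, (one_smul _ _).symm⟩ :
    app (tau i) (pt j) ∈ pr (pt k))
  refine ⟨k, c, hc, e, ?_⟩
  rw [R_eq i.2 j.2, ← (tau_spec i).2, e, lk_smul k hc, Nat.add_sub_cancel]

theorem R_lt {i j : ℕ} (hi : i < 693) (hj : j < 693) : R i j < 693 := by
  obtain ⟨k, c, -, -, e⟩ := R_lt_point ⟨i, hi⟩ ⟨j, hj⟩
  exact e ▸ k.2

theorem tb_conj (i j : Fin 693) : tb i * tb j * (tb i)⁻¹ = tb ⟨R i j, R_lt i.2 j.2⟩ := by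
  obtain ⟨k, c, hc, e, hR⟩ := R_lt_point i j
  rw [show (⟨R i j, R_lt i.2 j.2⟩ : Fin 693) = k from Fin.ext hR]
  have h1 := (tau_spec j).conj (tau i)
  rw [e] at h1
  rw [tb, tb, ← QuotientGroup.mk_inv, ← QuotientGroup.mk_mul, ← QuotientGroup.mk_mul,
    h1.unique ((tau_spec k).smul hc)]
  rfl

theorem tb_comm (i j : Fin 693) : Commute (tb i) (tb j) ↔ perpB i j = true := by
  rw [perpB_iff i.2 j.2]
  constructor
  · intro hc
    obtain ⟨k, c, hc0, e, hR⟩ := R_lt_point i j
    have h1 := tb_conj i j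
    rw [hc.eq, mul_inv_cancel_right] at h1
    have hkj : k = j := by
      rw [tb_inj h1]
      exact Fin.ext hR.symm
    rw [(tau_spec i).2, hkj] at e
    by_contra h0
    obtain ⟨a, ha, e3⟩ := of_line j (v := pt i) (pt_ne i) (a := (h (pt j) (pt i))⁻¹ * (c - 1)) (by
      rw [mul_smul, sub_smul, one_smul, ← e, add_sub_cancel_left, smul_smul, inv_mul_cancel₀ h0, one_smul])
    have := (pt_line ha e3)
    subst this
    exact h0 (pt_iso _)
  · intro h0
    have hc : Commute (tau i) (tau j) := (tau_spec j).comm_of_fix ((tau_spec i).app_fix h0)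
    exact hc.map (QuotientGroup.mk' _)

theorem tvSet_eq : tvSet = Set.range tb := by
  ext x
  constructor
  · rintro ⟨t, v, hv, ht, rfl⟩
    obtain ⟨k, hk⟩ := exists_pt hv ht.1
    obtain ⟨c, hc, e⟩ := mem_pr.1 (hk ▸ mem_pr.2 ⟨1, one_ne_zero, (one_smul _ _).symm⟩ : v ∈ pr (pt k))
    exact ⟨k, congrArg _ ((tau_spec k).smul hc |>.unique (e ▸ ht))⟩
  · rintro ⟨k, rfl⟩
    exact ⟨tau k, pt k, pt_ne k, tau_spec k, rfl⟩

theorem tb_noncomm : ∃ i j : Fin 693, ¬ Commute (tb i) (tb j) := by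
  have key : ∃ j : Fin 693, perpB 0 j = false := by decide +kernel
  obtain ⟨j, hj⟩ := key
  exact ⟨0, j, fun hc => by have := (tb_comm 0 j).1 hc; simp [hj] at this⟩

variable {G : Type*} [Group G] [Finite G] {D : Set G}

/-- a numbering of the perp of a member by the isotropic points -/
structure Pts (D : Set G) (a : G) (φ : ℕ → G) : Prop where
  mem : ∀ {i}, i < 693 → φ i ∈ nbr D a
  inj : ∀ {i j}, i < 693 → j < 693 → φ i = φ j → i = j
  surj : ∀ {y}, y ∈ nbr D a → ∃ i < 693, φ i = y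
  comm : ∀ {i j}, i < 693 → j < 693 → (Commute (φ i) (φ j) ↔ perpB i j = true)
  conj : ∀ {i j}, i < 693 → j < 693 → φ i * φ j * (φ i)⁻¹ = φ (R i j)

theorem Pts.map {a : G} {φ : ℕ → G} (hc : IsConjClosed D) (P : Pts D a φ) (g : G) :
    Pts D (g * a * g⁻¹) fun i => g * φ i * g⁻¹ where
  mem hi := by rw [← image_nbr hc]; exact ⟨_, P.mem hi, rfl⟩
  inj hi hj e := P.inj hi hj (by simpa using e)
  surj hy := by
    rw [← image_nbr hc] at hy
    obtain ⟨z, hz, rfl⟩ := hy
    obtain ⟨i, hi, rfl⟩ := P.surj hz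
    exact ⟨i, hi, rfl⟩
  comm hi hj := by
    rw [← P.comm hi hj]
    refine ⟨fun hh => ?_, fun hh => hh.map (MulAut.conj g)⟩
    have := hh.map (MulAut.conj g⁻¹)
    simpa [mul_assoc] using this
  conj hi hj := by
    rw [← P.conj hi hj]
    group

/-- the perp of each member is numbered -/
theorem exists_pts (hD : IsThreeTranspositionGroup D) (hprim : IsPrimitiveUnderConj D)
    (ht : IsOfTypeM22 G D) {a : G} (ha : a ∈ D) : ∃ φ, Pts D a φ := by
  have hcl := (class_of_primitive hD hprim).1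
  have hsep : Sep D := sep_of_pCore hD.1 hD.2.1 (pCore_two_of_typeM22 hcl ht)
  obtain ⟨-, d, hd, -, -, -, ⟨F, iF, iFt, hF, ⟨e₀⟩⟩, -⟩ := ht
  obtain ⟨e₁⟩ := CfsgLib.GTwoTwo.psu_equiv
    (FiniteField.ringEquivOfCardEq (K := F) (K' := K4) (by rw [hF, K4.card_eq])) 6 2
  let e : PerpQuot D d ≃* PSU6 := e₀.trans e₁
  have hne : ∃ x y : ↥(perpGroup D d), ¬ Commute x y := by
    by_contra! hall
    obtain ⟨i, j, hij⟩ := tb_noncomm
    obtain ⟨x, hx⟩ := QuotientGroup.mk_surjective (e.symm (tb i))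
    obtain ⟨y, hy⟩ := QuotientGroup.mk_surjective (e.symm (tb j))
    refine hij ?_
    rw [← e.apply_symm_apply (tb i), ← e.apply_symm_apply (tb j), ← hx, ← hy]
    exact ((hall x y).map (proj D d)).map e
  have hE := perpImage_isClass hcl hprim hsep hd hne
  have hE' : IsThreeTranspositionClass (e '' perpImage D d) := by
    obtain ⟨hS, ⟨w, hw, hcls⟩, hgen⟩ := hE
    refine ⟨image_set e.toMonoidHom hS fun x hx => ?_, ⟨e w, ⟨w, hw, rfl⟩, ?_⟩, ?_⟩
    · intro e1
      have := hS.1 x hx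
      rw [e.map_eq_one_iff.1 e1, orderOf_one] at this
      exact absurd this (by norm_num)
    · rw [hcls]
      ext x
      constructor
      · rintro ⟨y, hy, rfl⟩; exact e.toMonoidHom.map_isConj (show IsConj w y from hy)
      · intro hx
        obtain ⟨g, rfl⟩ := isConj_iff.1 (show IsConj (e w) x from hx)
        exact ⟨e.symm g * w * (e.symm g)⁻¹, isConj_iff.2 ⟨_, rfl⟩, by simp⟩
    · exact image_closure e.toMonoidHom e.surjective hgen
  have hrange : e '' perpImage D d = Set.range tb := (class_eq_tvSet hE').trans tvSet_eq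
  have hex : ∀ i : Fin 693, ∃ x : ↥(perpGroup D d), (x : G) ∈ nbr D d ∧ e (proj D d x) = tb i := fun i => by
    obtain ⟨_, ⟨x, hx, rfl⟩, hxe⟩ := (hrange ▸ Set.mem_range_self i : tb i ∈ e '' perpImage D d)
    exact ⟨x, hx, hxe⟩
  choose f hf hfe using hex
  have hinj : ∀ {x y : ↥(perpGroup D d)}, (x : G) ∈ nbr D d → (y : G) ∈ nbr D d →
      e (proj D d x) = e (proj D d y) → x = y := fun hx hy h1 =>
    proj_injective hcl hsep hd hx hy (e.injective h1)
  have hconj : ∀ i j, f i * f j * (f i)⁻¹ = f ⟨R i j, R_lt i.2 j.2⟩ := fun i j => by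
    refine hinj (conj_mem_nbr hD.2.1 (commute_of_mem_perpGroup (f i).2) (hf j)) (hf _) ?_
    rw [hfe, ← tb_conj, ← hfe i, ← hfe j]
    simp
  obtain ⟨g, rfl⟩ := class_exists_conj hcl hd ha
  refine ⟨_, (?_ : Pts D d fun i => if hi : i < 693 then (f ⟨i, hi⟩ : G) else 1).map hD.2.1 g⟩
  refine ⟨fun hi => ?_, fun hi hj e' => ?_, fun {y} hy => ?_, fun {i j} hi hj => ?_, fun {i j} hi hj => ?_⟩
  · rw [dif_pos hi]; exact hf _
  · rw [dif_pos hi, dif_pos hj] at e'
    have h1 := congrArg (fun x => e (proj D d x)) (Subtype.ext e')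
    simp only [hfe] at h1
    exact congrArg Fin.val (tb_inj h1)
  · obtain ⟨i, hi⟩ := (hrange ▸ ⟨_, ⟨⟨y, Subgroup.subset_closure hy⟩, hy, rfl⟩, rfl⟩ :
      e (proj D d ⟨y, Subgroup.subset_closure hy⟩) ∈ Set.range tb)
    refine ⟨i, i.2, ?_⟩
    rw [dif_pos i.2]
    exact congrArg Subtype.val (hinj (y := ⟨y, Subgroup.subset_closure hy⟩) (hf i) hy (by rw [hfe, hi]))
  · rw [dif_pos hi, dif_pos hj, ← tb_comm ⟨i, hi⟩ ⟨j, hj⟩]
    refine ⟨fun hc => ?_, fun hc => ?_⟩
    · rw [← hfe, ← hfe]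
      exact ((show Commute (f _) (f _) from Subtype.ext hc.eq).map (proj D d)).map e
    · have h1 := hconj ⟨i, hi⟩ ⟨j, hj⟩
      have hR : R i j = j := by
        have := congrArg (fun x => e (proj D d x)) h1
        simp only [map_mul, map_inv, hfe, hc.eq, mul_inv_cancel_right] at this
        exact (congrArg Fin.val (tb_inj this)).symm
      simp only [hR] at h1
      exact (show Commute (f ⟨i, hi⟩) (f ⟨j, hj⟩) from mul_inv_eq_iff_eq_mul.1 h1).map (perpGroup D d).subtype
  · rw [dif_pos hi, dif_pos hj, dif_pos (R_lt hi hj)]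
    exact congrArg Subtype.val (hconj ⟨i, hi⟩ ⟨j, hj⟩)

end CfsgLib.TypeM22
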